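import Groth.Agent.Sga3.H821.ExtAffine
import Groth.Agent.Sga3B.KerGrp

/-!
# Over a field, a homomorphism with affine kernel is affine
-/

set_option autoImplicit false
universe u
open CategoryTheory MonoidalCategory CartesianMonoidalCategory MonObj GrpObj AlgebraicGeometry Limits

namespace K270.FieldAff

open Groth.Agent.Sga3B Groth.Agent

/-- Over a field a quasi-compact homomorphism with affine kernel is affine. -/
theorem isAffineHom_of_ker (k : Type u) [Field k] (P Q : Over (Spec (CommRingCat.of k))) [GrpObj P] [GrpObj Q]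
    [LocallyOfFiniteType P.hom] [LocallyOfFiniteType Q.hom] (f : P ⟶ Q) [IsMonHom f] [QuasiCompact f.left]
    (hA : IsAffine (KerGrp.kerObj f).left) : IsAffineHom f.left := by
  have hlft : LocallyOfFiniteType f.left := by
    have : LocallyOfFiniteType (f.left ≫ Q.hom) := by rw [Over.w]; infer_instance
    exact locallyOfFiniteType_of_comp f.left Q.hom
  have hI : IsIntegral (𝟙_ (Over (Spec (CommRingCat.of k)))).left :=
    inferInstanceAs (IsIntegral (Spec (CommRingCat.of k)))
  have hS : Subsingleton (𝟙_ (Over (Spec (CommRingCat.of k)))).left :=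
    inferInstanceAs (Subsingleton (Spec (CommRingCat.of k)))
  obtain ⟨C, _, p, i, h1, h2, h3, h4, h5, h6, h7⟩ :=
    S3034.result k P Q f (by infer_instance)
  have hm : Mono i := Books.AlgPtsGrp.mono_of_isClosedImmersion i
  have hK' : AlgGrp.IsKernel (KerGrp.kerι f) p :=
    Sga3.H821.ExtAffine.isKernel_of_comp_mono f p i h3 (KerGrp.kerι f) (KerGrp.isPullback_ker f)
  have hpq : QuasiCompact p.left := by
    have : QuasiCompact (p.left ≫ i.left) := by
      rw [← Over.comp_left, h3]; infer_instance
    exact QuasiCompact.of_comp p.left i.left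
  let e := Sga3.H821.ExtAffine.kerIso p (KerGrp.kerι f) hK'
  have hI : IsIso e.inv.left := inferInstanceAs (IsIso ((Over.forget _).mapIso e).inv)
  have hka : IsAffineHom (KerGrp.kerObj p).hom := by
    rw [← Over.w e.inv]
    infer_instance
  have hp : IsAffineHom p.left := Sga3.H821.ExtAffine.isAffineHom_of_ker p hka
  rw [← h3, Over.comp_left]
  infer_instance

variable {S S' : Scheme.{u}} {G H : Over S} [GrpObj G] [GrpObj H]

/-- Kernels commute with base change. -/
theorem isPullback_ker_bc (q : S' ⟶ S) (u : G ⟶ H) :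
    IsPullback ((Over.pullback q).map (KerGrp.kerι u)) (toUnit _) ((Over.pullback q).map u)
      η[(Over.pullback q).obj H] := by
  have h := (KerGrp.isPullback_ker u).map (Over.pullback q)
  have ht : ∀ {X : Over S'} (a b : X ⟶ (Over.pullback q).obj (𝟙_ (Over S))), a = b := fun a b => by
    rw [← cancel_mono (inv (Functor.LaxMonoidal.ε (Over.pullback q)))]
    exact toUnit_unique _ _
  let e : (Over.pullback q).obj (𝟙_ (Over S)) ≅ 𝟙_ (Over S') :=
    { hom := toUnit _
      inv := Functor.LaxMonoidal.ε (Over.pullback q)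
      hom_inv_id := ht _ _
      inv_hom_id := toUnit_unique _ _ }
  refine IsPullback.of_iso h (Iso.refl _) (Iso.refl _) e (Iso.refl _) ?_ ?_ ?_ ?_
  · simp
  · exact toUnit_unique _ _
  · simp
  · rw [Iso.refl_hom, Category.comp_id, ← cancel_epi e.inv, Iso.inv_hom_id_assoc]
    rfl

/-- The kernel of the base change. -/
noncomputable def kerBc (q : S' ⟶ S) (u : G ⟶ H) :
    KerGrp.kerObj ((Over.pullback q).map u) ≅ (Over.pullback q).obj (KerGrp.kerObj u) :=
  (KerGrp.isPullback_ker ((Over.pullback q).map u)).isoIsPullback _ _ (isPullback_ker_bc q u)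

theorem isAffine_ker_bc (q : S' ⟶ S) (u : G ⟶ H) (h : IsAffine (pullback (KerGrp.kerObj u).hom q)) :
    IsAffine (KerGrp.kerObj ((Over.pullback q).map u)).left := by
  have hI : IsIso (kerBc q u).hom.left := inferInstanceAs (IsIso ((Over.forget _).mapIso (kerBc q u)).hom)
  have h' : IsAffine ((Over.pullback q).obj (KerGrp.kerObj u)).left := h
  exact .of_isIso (kerBc q u).hom.left

end K270.FieldAff
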