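import Groth.Agent.GrpSch.K270.HullFib
import Groth.Agent.Sga3.H789.FieldHull1
import Groth.Agent.Sga3.H788.FibCrit

/-!
# An `OConn` homomorphism from a flat group scheme over a Dedekind domain is faithfully flat
-/

set_option autoImplicit false
universe u
open CategoryTheory MonoidalCategory CartesianMonoidalCategory MonObj AlgebraicGeometry Limits

namespace K270.HullFF

open K270.OConn Groth.Agent.Sga3.H788 Groth.Agent.Sga3.H788.DedAff Groth.Agent.Sga3.H788.DedInj
  Groth.Agent.Sga3C.Affinization Groth.Agent.Sga3.H788.Assembly K270.HullFib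

theorem flat_surjective_of_dominant {k : Type u} [Field k] {G H : Over (Spec (CommRingCat.of k))} [GrpObj G]
    [GrpObj H] [LocallyOfFiniteType G.hom] (u : G ⟶ H)
    [IsMonHom u] [QuasiCompact u.left] [IsSchemeTheoreticallyDominant u.left] :
    Flat u.left ∧ Surjective u.left := by
  have h4 : IsLocallyNoetherian G.left := LocallyOfFiniteType.isLocallyNoetherian G.hom
  have h5 : Subsingleton ↥(Spec (CommRingCat.of k)) :=
    inferInstanceAs (Subsingleton (PrimeSpectrum k))
  let f : Limits.pullback u.left (η[H] : 𝟙_ (Over (Spec (CommRingCat.of k))) ⟶ H).left ⟶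
      Spec (CommRingCat.of k) := Limits.pullback.snd u.left η[H].left
  have h6 : Flat f := inferInstance
  exact ⟨Groth.Agent.Sga3.H787.FlatAff.flat_of_flat_ker u h6,
    Groth.Agent.Sga3.H789.FieldHull1.surjective_of_dominant u⟩

variable {R : Type u} [CommRing R]

theorem flat_surjective_bc [IsDedekindDomain R] (k : Type u) [Field k] [Algebra R k]
    {G G' : Over (Spec (CommRingCat.of R))} [GrpObj G] [GrpObj G'] (c : G ⟶ G') [IsMonHom c]
    (hc : OConn c.left) [Flat G.hom] [LocallyOfFiniteType G.hom] :
    Flat ((Over.pullback (sm R k)).map c).left ∧ Surjective ((Over.pullback (sm R k)).map c).left := by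
  have h1 := dominant_bc k c hc
  have hqc := hc.qc
  have h2 := quasiCompact_map (sm R k) c
  have h3 : LocallyOfFiniteType ((Over.pullback (sm R k)).obj G).hom :=
    inferInstanceAs (LocallyOfFiniteType (pullback.snd G.hom (sm R k)))
  have h4 : IsMonHom ((Over.pullback (sm R k)).map c) := inferInstance
  exact flat_surjective_of_dominant ((Over.pullback (sm R k)).map c)

theorem surjective [IsDedekindDomain R] 
    {G G' : Over (Spec (CommRingCat.of R))} [GrpObj G] [GrpObj G'] (c : G ⟶ G') [IsMonHom c]
    (hc : OConn c.left) [Flat G.hom] [LocallyOfFiniteType G.hom] : Surjective c.left := by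
  constructor
  intro h
  -- the point of the base
  let s := G'.hom h
  let k := s.asIdeal.ResidueField
  have h1 : ∃ t : Spec (CommRingCat.of k), sm R k t = s := by
    have h2 : s ∈ Set.range (PrimeSpectrum.comap (algebraMap R s.asIdeal.ResidueField)) := by
      rw [PrimeSpectrum.residueField_comap]
      rfl
    exact h2
  obtain ⟨t, ht⟩ := h1
  obtain ⟨z, hz1, hz2⟩ := Scheme.Pullback.exists_preimage_pullback (f := G'.hom) (g := sm R k) h t ht.symm
  obtain ⟨w, hw⟩ := (flat_surjective_bc k c hc).2.surj z
  refine ⟨pullback.fst G.hom (sm R k) w, ?_⟩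
  rw [← hz1, ← hw]
  rw [← Scheme.Hom.comp_apply, ← Scheme.Hom.comp_apply, (isPullback_map_left (sm R k) c).w]

section flat

attribute [local instance] secAlg

variable {G G' : Over (Spec (CommRingCat.of R))} (c : G ⟶ G')

theorem appLE_congr {X Y : Scheme.{u}} {f g : X ⟶ Y} (h : f = g) (V : Y.Opens) (U : X.Opens)
    (e : U ≤ f ⁻¹ᵁ V) (e' : U ≤ g ⁻¹ᵁ V) : f.appLE V U e = g.appLE V U e' := by
  subst h
  rfl

/-- the map on sections as an `R`-algebra map -/
noncomputable def secMap {V : G'.left.Opens} {U : G.left.Opens} (e : U ≤ c.left ⁻¹ᵁ V) :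
    Γ(G'.left, V) →ₐ[R] Γ(G.left, U) :=
  { (c.left.appLE V U e).hom with
    commutes' := fun r => by
      change (c.left.appLE V U e).hom ((toSec G' V).hom r) = (toSec G U).hom r
      rw [← CommRingCat.comp_apply]
      congr 2
      rw [toSec, toSec, Category.assoc, Scheme.Hom.appLE_comp_appLE]
      congr 1
      exact appLE_congr (Over.w c) _ _ _ _ }

theorem ofHom_secMap {V : G'.left.Opens} {U : G.left.Opens} (e : U ≤ c.left ⁻¹ᵁ V) :
    CommRingCat.ofHom (secMap c e).toRingHom = c.left.appLE V U e := rfl

theorem flat_tensor (k : Type u) [Field k] [Algebra R k] (h : Flat ((Over.pullback (sm R k)).map c).left)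
    {V : G'.left.Opens} {U : G.left.Opens} (hV : IsAffineOpen V) (hU : IsAffineOpen U)
    (e : U ≤ c.left ⁻¹ᵁ V) : (Algebra.TensorProduct.map (secMap c e) (AlgHom.id R k)).toRingHom.Flat := by
  let f : pullback (hU.fromSpec ≫ G.hom) (sm R k) ⟶ pullback (hV.fromSpec ≫ G'.hom) (sm R k) :=
    pullback.map _ _ _ _ (Spec.map (CommRingCat.ofHom (secMap c e).toRingHom)) (𝟙 _) (𝟙 _) (by
      rw [Category.comp_id, ofHom_secMap, ← Category.assoc,
        IsAffineOpen.SpecMap_appLE_fromSpec c.left hV hU e, Category.assoc, Over.w]) (by simp)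
  have hf1 : f ≫ pullback.fst _ _ = pullback.fst _ _ ≫
      Spec.map (CommRingCat.ofHom (secMap c e).toRingHom) := pullback.lift_fst _ _ _
  have hf2 : f ≫ pullback.snd _ _ = pullback.snd _ _ := by
    refine (pullback.lift_snd _ _ _).trans (Category.comp_id _)
  have hf3 : f ≫ piece G' k hV = piece G k hU ≫ ((Over.pullback (sm R k)).map c).left := by
    apply pullback.hom_ext
    · rw [Category.assoc, piece_fst, reassoc_of% hf1, ofHom_secMap, IsAffineOpen.SpecMap_appLE_fromSpec,
        Category.assoc]
      refine Eq.trans ?_ (congrArg (fun x => piece G k hU ≫ x) (isPullback_map_left (sm R k) c).w.symm)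
      rw [← Category.assoc, ← Category.assoc, piece_fst]
    · rw [Category.assoc, piece_snd, hf2, Category.assoc]
      have h3 : ((Over.pullback (sm R k)).map c).left ≫ pullback.snd G'.hom (sm R k) =
          pullback.snd G.hom (sm R k) := pullback.lift_snd _ _ _
      rw [h3, piece_snd]
  have hf4 : Flat (f ≫ piece G' k hV) := by
    rw [hf3]
    have : Flat (piece G k hU) := by
      have : IsOpenImmersion (piece G k hU) := inferInstance
      infer_instance
    infer_instance
  have hf5 : Flat f := MorphismProperty.of_postcomp @Flat (W' := MorphismProperty.monomorphisms _) f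
    (piece G' k hV) (by
      have : IsOpenImmersion (piece G' k hV) := inferInstance
      exact inferInstanceAs (Mono (piece G' k hV))) hf4
  exact SpecBC.flat_map k (secMap c e)
    (pullback.fst (hV.fromSpec ≫ G'.hom) (sm R k)) (pullback.snd (hV.fromSpec ≫ G'.hom) (sm R k))
    (isPullback_piece G' k hV)
    (pullback.fst (hU.fromSpec ≫ G.hom) (sm R k)) (pullback.snd (hU.fromSpec ≫ G.hom) (sm R k))
    (isPullback_piece G k hU) f hf1 hf2

/-- Fibre criterion of flatness over a Dedekind domain. -/
theorem flat_of_fibres [IsDedekindDomain R] [Flat G.hom] [Flat G'.hom]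
    (h : ∀ (k : Type u) [Field k] [Algebra R k], Flat ((Over.pullback (sm R k)).map c).left) :
    Flat c.left := by
  rw [HasRingHomProperty.iff_appLE (P := @Flat)]
  intro V U e
  have hA : Module.Flat R Γ(G'.left, V.1) := flat_toSec G' V.1
  have hB : Module.Flat R Γ(G.left, U.1) := flat_toSec G U.1
  let _ : Algebra Γ(G'.left, V.1) Γ(G.left, U.1) := (secMap c e).toRingHom.toAlgebra
  have : IsScalarTower R Γ(G'.left, V.1) Γ(G.left, U.1) :=
    IsScalarTower.of_algebraMap_eq fun x => ((secMap c e).commutes x).symm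
  change Module.Flat Γ(G'.left, V.1) Γ(G.left, U.1)
  refine FibCrit.flat_of_fibres (R := R) fun k _ _ => FibCrit.flat_tensor_of_flat_map k ?_
  exact flat_tensor c k (h k) V.2 U.2 e

end flat

end K270.HullFF
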