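import Mathlib.CategoryTheory.Monoidal.Cartesian.Over
import Mathlib.CategoryTheory.Monoidal.Cartesian.Grp
import Mathlib.AlgebraicGeometry.Group.Abelian

/-!
# Shear isomorphism of a group object, whiskering and base change
-/

set_option autoImplicit false
universe u v w
open CategoryTheory CategoryTheory.Limits MonoidalCategory CartesianMonoidalCategory MonObj AlgebraicGeometry

namespace K270.Shear

section

variable {C : Type u} [Category.{v} C] [CartesianMonoidalCategory C]

theorem isPullback_whiskerRight {X Y : C} (f : X ⟶ Y) (Z : C) :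
    IsPullback (f ▷ Z) (fst X Z) (fst Y Z) f := by
  refine ⟨⟨by simp⟩, ⟨PullbackCone.IsLimit.mk _ (fun s => lift s.snd (s.fst ≫ snd _ _)) ?_ ?_ ?_⟩⟩
  · intro s
    ext1
    · simp [s.condition]
    · simp
  · intro s; simp
  · intro s m h₁ h₂
    ext1
    · simp [h₂]
    · simp [← h₁]

theorem isPullback_whiskerLeft {X Y : C} (f : X ⟶ Y) (Z : C) :
    IsPullback (Z ◁ f) (snd Z X) (snd Z Y) f := by
  refine ⟨⟨by simp⟩, ⟨PullbackCone.IsLimit.mk _ (fun s => lift (s.fst ≫ fst _ _) s.snd) ?_ ?_ ?_⟩⟩
  · intro s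
    ext1
    · simp
    · simp [s.condition]
  · intro s; simp
  · intro s m h₁ h₂
    ext1
    · simp [← h₁]
    · simp [h₂]

/-- The shear isomorphism `(g, h) ↦ (g h, h)`. -/
noncomputable def shearR (G : C) [GrpObj G] : G ⊗ G ≅ G ⊗ G where
  hom := lift μ[G] (snd G G)
  inv := lift (fst G G * (snd G G)⁻¹) (snd G G)
  hom_inv_id := by
    have h1 : μ[G] = fst G G * snd G G := by rw [Hom.mul_def]; simp
    ext1
    · simp [MonObj.comp_mul, GrpObj.comp_inv, h1]
    · simp
  inv_hom_id := by
    have h1 : μ[G] = fst G G * snd G G := by rw [Hom.mul_def]; simp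
    ext1
    · simp [MonObj.comp_mul, GrpObj.comp_inv, h1]
    · simp

end

variable {S : Scheme.{u}}

theorem whiskerRight_left_mem (P : MorphismProperty Scheme.{u}) [P.IsStableUnderBaseChange]
    {X Y : Over S} (f : X ⟶ Y) (Z : Over S) (h : P f.left) : P (f ▷ Z).left :=
  MorphismProperty.of_isPullback ((isPullback_whiskerRight f Z).map (Over.forget _)).flip h

theorem whiskerLeft_left_mem (P : MorphismProperty Scheme.{u}) [P.IsStableUnderBaseChange]
    {X Y : Over S} (f : X ⟶ Y) (Z : Over S) (h : P f.left) : P (Z ◁ f).left :=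
  MorphismProperty.of_isPullback ((isPullback_whiskerLeft f Z).map (Over.forget _)).flip h

end K270.Shear
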