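import Groth.Agent.GrpSch.K270.Orth
import Groth.Agent.GrpSch.K270.Shear

/-!
# The affine hull of a homomorphism of group schemes is a group scheme
-/

set_option autoImplicit false
universe u
open CategoryTheory MonoidalCategory CartesianMonoidalCategory MonObj GrpObj AlgebraicGeometry Limits

namespace K270.HullGrp

open K270.OConn

variable {S : Scheme.{u}}

theorem whiskerRight {A A' : Over S} {a : A ⟶ A'} (B : Over S) [Flat B.hom] (ha : OConn a.left) :
    OConn (a ▷ B).left := by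
  have h1 : IsPullback (a ▷ B).left (fst A B).left (fst A' B).left a.left :=
    (K270.Shear.isPullback_whiskerRight a B).map (Over.forget S)
  have : Flat (fst A' B).left :=
    MorphismProperty.pullback_fst (P := @Flat) A'.hom B.hom inferInstance
  exact OConn.of_isPullback h1.flip ha

theorem whiskerLeft {A A' : Over S} {a : A ⟶ A'} (B : Over S) [Flat B.hom] (ha : OConn a.left) :
    OConn (B ◁ a).left := by
  have h1 : IsPullback (B ◁ a).left (snd B A).left (snd B A').left a.left :=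
    (K270.Shear.isPullback_whiskerLeft a B).map (Over.forget S)
  have : Flat (snd B A').left :=
    MorphismProperty.pullback_snd (P := @Flat) B.hom A'.hom inferInstance
  exact OConn.of_isPullback h1.flip ha

theorem tensor {A A' B B' : Over S} {a : A ⟶ A'} {b : B ⟶ B'} [Flat B.hom] [Flat A'.hom]
    (ha : OConn a.left) (hb : OConn b.left) : OConn (a ⊗ₘ b).left := by
  rw [tensorHom_def, Over.comp_left]
  exact (whiskerRight B ha).comp (whiskerLeft A' hb)

theorem oext {A A' B C : Over S} {c : A ⟶ A'} (hc : OConn c.left) {b : B ⟶ C} [IsAffineHom b.left]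
    {g₁ g₂ : A' ⟶ B} (h : c ≫ g₁ = c ≫ g₂) (h' : g₁ ≫ b = g₂ ≫ b) : g₁ = g₂ := by
  have := hc.isDom
  ext1
  exact hom_ext c.left b.left (congrArg (fun f => f.left) h') (congrArg (fun f => f.left) h)

theorem olift {A A' B C : Over S} {c : A ⟶ A'} (hc : OConn c.left) {b : B ⟶ C} [IsAffineHom b.left]
    (h : A ⟶ B) (g : A' ⟶ C) (w : h ≫ b = c ≫ g) : ∃ l : A' ⟶ B, l ≫ b = g ∧ c ≫ l = h := by
  obtain ⟨l, h1, h2⟩ := exists_lift hc b.left h.left g.left (congrArg (fun f => f.left) w)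
  have hl : l ≫ B.hom = A'.hom := by
    rw [← Over.w b, reassoc_of% h1, Over.w]
  exact ⟨Over.homMk l hl, by ext1; exact h1, by ext1; exact h2⟩

variable {G G' G₀ : Over S}

theorem exists_grpObj [GrpObj G] [GrpObj G₀] (u : G ⟶ G₀) [IsMonHom u] (c : G ⟶ G') (a : G' ⟶ G₀)
    (h : c ≫ a = u) [IsAffineHom a.left] (hc : OConn c.left) [Flat G.hom] [Flat G'.hom] :
    ∃ (_ : GrpObj G'), IsMonHom c ∧ IsMonHom a := by
  have hfl : Flat (G ⊗ G).hom := by rw [Over.tensorObj_hom]; infer_instance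
  have hfl' : Flat (G' ⊗ G').hom := by rw [Over.tensorObj_hom]; infer_instance
  have hfu : Flat (𝟙_ (Over S)).hom := by
    change Flat (𝟙 S)
    infer_instance
  have h1 : OConn (𝟙 _ : 𝟙_ (Over S) ⟶ 𝟙_ (Over S)).left := OConn.of_isIso _
  have h2 : OConn (c ⊗ₘ c).left := tensor hc hc
  have hl : OConn ((𝟙 _ : 𝟙_ (Over S) ⟶ 𝟙_ (Over S)) ⊗ₘ c).left := tensor h1 hc
  have hr : OConn (c ⊗ₘ (𝟙 _ : 𝟙_ (Over S) ⟶ 𝟙_ (Over S))).left := tensor hc h1
  have h3 : OConn ((c ⊗ₘ c) ⊗ₘ c).left := tensor h2 hc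
  have hone : η[G] ≫ u = η[G₀] := IsMonHom.one_hom u
  have hmul : μ[G] ≫ u = (u ⊗ₘ u) ≫ μ[G₀] := IsMonHom.mul_hom u
  have hinv : ι[G] ≫ u = u ≫ ι[G₀] := by simp
  obtain ⟨m, hma, hm⟩ := olift (b := a) h2 (μ ≫ c) ((a ⊗ₘ a) ≫ μ[G₀]) (by
    rw [Category.assoc, h, hmul, ← Category.assoc, tensorHom_comp_tensorHom, h])
  obtain ⟨i, hia, hi⟩ := olift (b := a) hc (ι ≫ c) (a ≫ ι[G₀]) (by
    rw [Category.assoc, h, hinv, ← Category.assoc, h])
  have hea : (η[G] ≫ c) ≫ a = η[G₀] := by rw [Category.assoc, h, hone]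
  let M : MonObj G' :=
    { one := η ≫ c
      mul := m
      one_mul := by
        apply oext (b := a) hl
        · calc (𝟙 _ ⊗ₘ c) ≫ (η ≫ c) ▷ G' ≫ m = (η[G] ▷ G) ≫ (c ⊗ₘ c) ≫ m := by
                rw [← Category.assoc, ← Category.assoc, ← tensorHom_id, ← tensorHom_id, tensorHom_comp_tensorHom,
                  tensorHom_comp_tensorHom, Category.id_comp, Category.id_comp, Category.comp_id]
            _ = (η[G] ▷ G ≫ μ[G]) ≫ c := by rw [hm, Category.assoc]
            _ = (𝟙 _ ⊗ₘ c) ≫ (λ_ G').hom := by simp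
        · calc ((η ≫ c) ▷ G' ≫ m) ≫ a = ((η[G] ≫ c) ▷ G') ≫ (a ⊗ₘ a) ≫ μ[G₀] := by
                rw [Category.assoc, hma]
            _ = (𝟙 _ ⊗ₘ a) ≫ (η[G₀] ▷ G₀) ≫ μ[G₀] := by
                rw [← Category.assoc, ← Category.assoc, ← tensorHom_id, ← tensorHom_id, tensorHom_comp_tensorHom,
                  tensorHom_comp_tensorHom, Category.id_comp, Category.id_comp, Category.comp_id, hea]
            _ = (λ_ G').hom ≫ a := by simp
      mul_one := by
        apply oext (b := a) hr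
        · calc (c ⊗ₘ 𝟙 _) ≫ G' ◁ (η ≫ c) ≫ m = (G ◁ η[G]) ≫ (c ⊗ₘ c) ≫ m := by
                rw [← Category.assoc, ← Category.assoc, ← id_tensorHom, ← id_tensorHom, tensorHom_comp_tensorHom,
                  tensorHom_comp_tensorHom, Category.id_comp, Category.id_comp, Category.comp_id]
            _ = (G ◁ η[G] ≫ μ[G]) ≫ c := by rw [hm, Category.assoc]
            _ = (c ⊗ₘ 𝟙 _) ≫ (ρ_ G').hom := by simp
        · calc (G' ◁ (η ≫ c) ≫ m) ≫ a = (G' ◁ (η[G] ≫ c)) ≫ (a ⊗ₘ a) ≫ μ[G₀] := by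
                rw [Category.assoc, hma]
            _ = (a ⊗ₘ 𝟙 _) ≫ (G₀ ◁ η[G₀]) ≫ μ[G₀] := by
                rw [← Category.assoc, ← Category.assoc, ← id_tensorHom, ← id_tensorHom, tensorHom_comp_tensorHom,
                  tensorHom_comp_tensorHom, Category.id_comp, Category.id_comp, Category.comp_id, hea]
            _ = (ρ_ G').hom ≫ a := by simp
      mul_assoc := by
        apply oext (b := a) h3
        · calc ((c ⊗ₘ c) ⊗ₘ c) ≫ m ▷ G' ≫ m = (((c ⊗ₘ c) ≫ m) ⊗ₘ c) ≫ m := by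
                rw [← Category.assoc, tensorHom_comp_whiskerRight]
            _ = ((μ[G] ⊗ₘ 𝟙 G) ≫ (c ⊗ₘ c)) ≫ m := by rw [hm, tensorHom_comp_tensorHom, Category.id_comp]
            _ = ((μ[G] ▷ G) ≫ μ[G]) ≫ c := by rw [Category.assoc, hm, tensorHom_id, Category.assoc]
            _ = (α_ G G G).hom ≫ (G ◁ μ[G]) ≫ μ[G] ≫ c := by rw [MonObj.mul_assoc]; simp
            _ = (α_ G G G).hom ≫ ((G ◁ μ[G]) ≫ (c ⊗ₘ c)) ≫ m := by rw [Category.assoc, hm]
            _ = (α_ G G G).hom ≫ (c ⊗ₘ ((c ⊗ₘ c) ≫ m)) ≫ m := by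
                rw [← id_tensorHom, tensorHom_comp_tensorHom, Category.id_comp, hm]
            _ = ((c ⊗ₘ c) ⊗ₘ c) ≫ (α_ G' G' G').hom ≫ (G' ◁ m) ≫ m := by
                rw [associator_naturality_assoc, tensorHom_comp_whiskerLeft_assoc]
        · calc (m ▷ G' ≫ m) ≫ a = (m ▷ G') ≫ (a ⊗ₘ a) ≫ μ[G₀] := by rw [Category.assoc, hma]
            _ = ((m ≫ a) ⊗ₘ a) ≫ μ[G₀] := by
                rw [← Category.assoc, ← tensorHom_id, tensorHom_comp_tensorHom, Category.id_comp]
            _ = ((a ⊗ₘ a) ⊗ₘ a) ≫ (μ[G₀] ▷ G₀) ≫ μ[G₀] := by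
                rw [hma, ← Category.assoc, tensorHom_comp_whiskerRight]
            _ = ((a ⊗ₘ a) ⊗ₘ a) ≫ (α_ G₀ G₀ G₀).hom ≫ (G₀ ◁ μ[G₀]) ≫ μ[G₀] := by
                rw [MonObj.mul_assoc]
            _ = (α_ G' G' G').hom ≫ (a ⊗ₘ (m ≫ a)) ≫ μ[G₀] := by
                rw [associator_naturality_assoc, tensorHom_comp_whiskerLeft_assoc, ← hma]
            _ = ((α_ G' G' G').hom ≫ (G' ◁ m) ≫ m) ≫ a := by
                rw [Category.assoc, Category.assoc, hma, ← id_tensorHom, tensorHom_comp_tensorHom_assoc,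
                  Category.id_comp, hma] }
  let Gr : GrpObj G' :=
    { inv := i
      left_inv := by
        apply oext (b := a) hc
        · calc c ≫ lift i (𝟙 G') ≫ m = lift ι[G] (𝟙 G) ≫ (c ⊗ₘ c) ≫ m := by
                rw [← Category.assoc, ← Category.assoc]
                congr 1
                ext1 <;> simp [hi]
            _ = (lift ι[G] (𝟙 G) ≫ μ[G]) ≫ c := by rw [hm, Category.assoc]
            _ = c ≫ toUnit G' ≫ η[G] ≫ c := by simp
        · calc (lift i (𝟙 G') ≫ m) ≫ a = lift i (𝟙 G') ≫ (a ⊗ₘ a) ≫ μ[G₀] := by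
                rw [Category.assoc, hma]
            _ = a ≫ lift ι[G₀] (𝟙 G₀) ≫ μ[G₀] := by
                rw [← Category.assoc, ← Category.assoc]
                congr 1
                ext1 <;> simp [hia]
            _ = (toUnit G' ≫ η[G] ≫ c) ≫ a := by
                rw [GrpObj.left_inv, Category.assoc, hea]
                simp
      right_inv := by
        apply oext (b := a) hc
        · calc c ≫ lift (𝟙 G') i ≫ m = lift (𝟙 G) ι[G] ≫ (c ⊗ₘ c) ≫ m := by
                rw [← Category.assoc, ← Category.assoc]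
                congr 1
                ext1 <;> simp [hi]
            _ = (lift (𝟙 G) ι[G] ≫ μ[G]) ≫ c := by rw [hm, Category.assoc]
            _ = c ≫ toUnit G' ≫ η[G] ≫ c := by simp
        · calc (lift (𝟙 G') i ≫ m) ≫ a = lift (𝟙 G') i ≫ (a ⊗ₘ a) ≫ μ[G₀] := by
                rw [Category.assoc, hma]
            _ = a ≫ lift (𝟙 G₀) ι[G₀] ≫ μ[G₀] := by
                rw [← Category.assoc, ← Category.assoc]
                congr 1
                ext1 <;> simp [hia]
            _ = (toUnit G' ≫ η[G] ≫ c) ≫ a := by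
                rw [GrpObj.right_inv, Category.assoc, hea]
                simp }
  exact ⟨Gr, { one_hom := rfl, mul_hom := hm.symm }, { one_hom := hea, mul_hom := hma }⟩

end K270.HullGrp
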