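import Groth.Agent.GrpSch.K270.Hull
import Groth.Agent.GrpSch.K270.HullGrp
import Groth.Agent.GrpSch.K270.HullFF
import Groth.Agent.GrpSch.K270.FieldAff
import Mathlib.AlgebraicGeometry.Morphisms.FlatMono

/-!
# Affineness of separated homomorphisms from a flat group scheme over a Dedekind domain
-/

set_option autoImplicit false
universe u
open CategoryTheory MonoidalCategory CartesianMonoidalCategory MonObj GrpObj AlgebraicGeometry Limits

namespace K270.DedLoc

open K270.OConn Groth.Agent.Sga3B Groth.Agent.Sga3.H788.Assembly

/-- A flat surjective quasi-compact separated morphism over an integral affine scheme with flat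
source, which is a monomorphism generically, is an isomorphism. -/
theorem isIso_of_generic {X H S T : Scheme.{u}} (φ : X ⟶ H) [Flat φ] [Surjective φ] [QuasiCompact φ]
    [IsSeparated φ] (f : X ⟶ S) (fH : H ⟶ S) (hf : φ ≫ fH = f) [Flat f] (j : T ⟶ S)
    [QuasiCompact j] [IsSchemeTheoreticallyDominant j]
    (hq : Mono (pullback.map f j fH j φ (𝟙 T) (𝟙 S) (by rw [hf, Category.comp_id])
      (by rw [Category.comp_id, Category.id_comp]))) : IsIso φ := by
  suffices Mono φ from Flat.isIso_of_surjective_of_mono φ
  let Z := pullback φ φ
  let p1 : Z ⟶ X := pullback.fst φ φ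
  let p2 : Z ⟶ X := pullback.snd φ φ
  have hZ : Flat (p1 ≫ f) := inferInstance
  -- the generic fibre of `Z`
  let W := pullback (p1 ≫ f) j
  let i : W ⟶ Z := pullback.fst (p1 ≫ f) j
  have hi : IsSchemeTheoreticallyDominant i := inferInstance
  have hp2 : p2 ≫ f = p1 ≫ f := by
    rw [← hf, ← pullback.condition_assoc]
  have hagree : i ≫ p1 = i ≫ p2 := by
    let a1 : W ⟶ pullback f j := pullback.lift (i ≫ p1) (pullback.snd _ _) (by
      rw [Category.assoc]; exact pullback.condition)
    let a2 : W ⟶ pullback f j := pullback.lift (i ≫ p2) (pullback.snd _ _) (by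
      rw [Category.assoc, hp2]; exact pullback.condition)
    have h1 : a1 = a2 := by
      rw [← cancel_mono (pullback.map f j fH j φ (𝟙 T) (𝟙 S) _ _)]
      apply pullback.hom_ext
      · simp only [Category.assoc, pullback.lift_fst, pullback.map, a1, a2, pullback.lift_fst_assoc]
        rw [pullback.condition]
      · simp only [Category.assoc, pullback.lift_snd, pullback.map, a1, a2, pullback.lift_snd_assoc]
    have h2 : a1 ≫ pullback.fst f j = a2 ≫ pullback.fst f j := by rw [h1]
    rwa [pullback.lift_fst, pullback.lift_fst] at h2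
  -- the diagonal is an isomorphism
  let Δ := pullback.diagonal φ
  have hΔ : i = (i ≫ p1) ≫ Δ := by
    apply pullback.hom_ext
    · simp [Δ, p1]
    · simp only [Δ, Category.assoc, pullback.diagonal_snd, Category.comp_id]
      exact hagree.symm
  have hker : Δ.ker = ⊥ := by
    rw [← le_bot_iff, ← i.ker_eq_bot]
    conv_rhs => rw [hΔ]
    exact Scheme.Hom.le_ker_comp _ _
  have hiso : IsIso Δ := IsClosedImmersion.isIso_iff_ker_eq_bot.2 hker
  exact (pullback.isIso_diagonal_iff φ).1 hiso

/-- The statement over an affine Dedekind base. -/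
theorem main {R : Type u} [CommRing R] [IsDedekindDomain R] (K : Type u) [Field K]
    (j : Spec (CommRingCat.of K) ⟶ Spec (CommRingCat.of R)) [Flat j] [IsSchemeTheoreticallyDominant j]
    (G G₀ : Over (Spec (CommRingCat.of R))) [GrpObj G] [GrpObj G₀]
    [LocallyOfFiniteType G.hom] [QuasiCompact G.hom] [LocallyOfFiniteType G₀.hom] [QuasiCompact G₀.hom]
    [Flat G.hom] (u : G ⟶ G₀) [IsMonHom u] [IsSeparated u.left]
    (hker : IsAffine (pullback (KerGrp.kerObj u).hom j)) : IsAffineHom u.left := by
  have hN : IsLocallyNoetherian (Spec (CommRingCat.of R)) := inferInstance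
  have hN0 : IsLocallyNoetherian G₀.left := LocallyOfFiniteType.isLocallyNoetherian G₀.hom
  have hqs0 : QuasiSeparated G₀.hom := inferInstance
  have hqc : QuasiCompact u.left := by
    have : QuasiCompact (u.left ≫ G₀.hom) := by rw [Over.w]; infer_instance
    exact QuasiCompact.of_comp u.left G₀.hom
  obtain ⟨Y, c₀, a₀, ha₀, hc₀, hca⟩ := K270.Hull.exists_hull u.left
  let G' : Over (Spec (CommRingCat.of R)) := Over.mk (a₀ ≫ G₀.hom)
  let a : G' ⟶ G₀ := Over.homMk a₀ rfl
  let c : G ⟶ G' := Over.homMk c₀ (by
    change c₀ ≫ a₀ ≫ G₀.hom = G.hom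
    rw [← Category.assoc, hca, Over.w])
  have hac : c ≫ a = u := by ext1; exact hca
  have ha : IsAffineHom a.left := ha₀
  have hc : OConn c.left := hc₀
  have hflat : Flat G'.hom := K270.HullFlat.flat_of_injective c (fun V => (hc.bij V).1)
  obtain ⟨_, hcm, ham⟩ := K270.HullGrp.exists_grpObj u c a hac hc
  have hcqc : QuasiCompact c.left := hc.qc
  have hcs : Surjective c.left := K270.HullFF.surjective c hc
  have hcf : Flat c.left := K270.HullFF.flat_of_fibres c
    (fun k _ _ => (K270.HullFF.flat_surjective_bc k c hc).1)
  have hcsep : IsSeparated c.left := by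
    have : IsSeparated (c.left ≫ a.left) := by
      rw [← Over.comp_left, hac]; infer_instance
    exact IsSeparated.of_comp c.left a.left
  -- the generic fibre
  have hu1 : LocallyOfFiniteType ((Over.pullback j).obj G).hom :=
    inferInstanceAs (LocallyOfFiniteType (pullback.snd G.hom j))
  have hu2 : LocallyOfFiniteType ((Over.pullback j).obj G₀).hom :=
    inferInstanceAs (LocallyOfFiniteType (pullback.snd G₀.hom j))
  have hu3 : QuasiCompact ((Over.pullback j).map u).left := K270.HullFib.quasiCompact_map j u
  have hu4 : IsMonHom ((Over.pullback j).map u) := inferInstance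
  have hu5 : IsAffineHom ((Over.pullback j).map u).left :=
    K270.FieldAff.isAffineHom_of_ker K _ _ ((Over.pullback j).map u) (K270.FieldAff.isAffine_ker_bc j u hker)
  have hfl : Flat (pullback.fst G'.hom j) := inferInstance
  have hcK : OConn ((Over.pullback j).map c).left :=
    OConn.of_isPullback (K270.HullFib.isPullback_map_left j c).flip hc
  have hcK2 : IsAffineHom ((Over.pullback j).map c).left := by
    have h1 : IsAffineHom (((Over.pullback j).map c).left ≫ ((Over.pullback j).map a).left) := by
      rw [← Over.comp_left, ← Functor.map_comp, hac]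
      exact hu5
    have h2 : IsAffineHom ((Over.pullback j).map a).left :=
      MorphismProperty.of_isPullback (P := @IsAffineHom) (K270.HullFib.isPullback_map_left j a).flip ha
    exact IsAffineHom.of_comp _ ((Over.pullback j).map a).left
  have hcK3 : IsIso ((Over.pullback j).map c).left :=
    isIso_of_affine _ fun V _ => hcK.bij V
  have hjqc : QuasiCompact j := inferInstance
  have hiso : IsIso c.left := by
    refine isIso_of_generic c.left G.hom G'.hom (Over.w c) j ?_
    have h1 : pullback.map G.hom j G'.hom j c.left (𝟙 _) (𝟙 _) (by rw [Over.w, Category.comp_id])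
      (by rw [Category.comp_id, Category.id_comp]) = ((Over.pullback j).map c).left := by
      apply pullback.hom_ext
      · rw [pullback.lift_fst]
        exact (K270.HullFib.isPullback_map_left j c).w.symm
      · rw [pullback.lift_snd, Category.comp_id]
        exact (pullback.lift_snd _ _ _).symm
    rw [h1]
    infer_instance
  rw [← hac, Over.comp_left]
  infer_instance

end K270.DedLoc
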