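import Groth.Agent.GrpSch.K270.ImageFam
import Groth.Agent.Books.SubHopfFG
import Groth.Agent.Books.AffBridge2

/-!
# Schematically dominant homomorphisms over a field

* `fppf_of_dominant` : a quasi-compact schematically dominant homomorphism of group schemes locally of finite
  type over a field is faithfully flat.
* `locallyOfFiniteType_of_dominant` : an affine group scheme with a schematically dominant homomorphism from an
  algebraic group is of finite type.
-/

set_option autoImplicit false
universe u
open CategoryTheory CategoryTheory.Limits MonoidalCategory CartesianMonoidalCategory MonObj AlgebraicGeometry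

namespace K270.DomAff

open Groth.Agent.Books.AffBridge Groth.Agent.Books.AffBridge2 Groth.Agent.Books.SubHopf

variable {k : Type u} [Field k]

theorem fppf_of_dominant (G H : Over (Spec (CommRingCat.of k))) [GrpObj G] [GrpObj H] [LocallyOfFiniteType G.hom]
    [LocallyOfFiniteType H.hom] (u : G ⟶ H) [IsMonHom u] [QuasiCompact u.left] (hu : u.left.ker = ⊥) :
    Flat u.left ∧ Surjective u.left ∧ LocallyOfFinitePresentation u.left := by
  obtain ⟨C, hC, p, i, hp, hi, hpi, h1, h2, h3, h4⟩ := ImageFam.exists_factor G H u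
  have hik : i.left.ker = ⊥ := by
    refine le_bot_iff.mp ?_
    rw [← hu, ← hpi, Over.comp_left]
    exact Scheme.Hom.le_ker_comp _ _
  have hii : IsIso i.left := IsClosedImmersion.isIso_iff_ker_eq_bot.mpr hik
  have hw' : p.left ≫ i.left = u.left := by rw [← Over.comp_left, hpi]
  rw [← hw']
  exact ⟨inferInstance, inferInstance, inferInstance⟩

theorem ker_specMap_eq_bot {A B : Type u} [CommRing A] [CommRing B] (f : A →+* B) (hf : Function.Injective f) :
    (Spec.map (CommRingCat.ofHom f)).ker = ⊥ := by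
  apply Scheme.IdealSheafData.ext_of_isAffine
  rw [Scheme.ker_of_isAffine]
  have h1 : Function.Injective (Spec.map (CommRingCat.ofHom f)).appTop.hom := by
    have h2 := Scheme.ΓSpecIso_naturality (CommRingCat.ofHom f)
    have h3 : (Spec.map (CommRingCat.ofHom f)).appTop =
        (Scheme.ΓSpecIso (CommRingCat.of A)).hom ≫ CommRingCat.ofHom f ≫ (Scheme.ΓSpecIso (CommRingCat.of B)).inv := by
      rw [← Category.assoc, Iso.eq_comp_inv, h2]
    rw [h3]
    simp only [CommRingCat.hom_comp, RingHom.coe_comp]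
    exact ((ConcreteCategory.bijective_of_isIso (Scheme.ΓSpecIso (CommRingCat.of B)).inv).1.comp hf).comp
      (ConcreteCategory.bijective_of_isIso (Scheme.ΓSpecIso (CommRingCat.of A)).hom).1
  simpa [RingHom.ker_eq_bot_iff_eq_zero, injective_iff_map_eq_zero] using h1

theorem ker_comp_eq_bot {X Y Z : Scheme.{u}} (f : X ⟶ Y) (g : Y ⟶ Z) (hf : f.ker = ⊥) (hg : g.ker = ⊥) :
    (f ≫ g).ker = ⊥ := by
  rw [Scheme.Hom.ker_comp, hf, Scheme.IdealSheafData.map_bot, hg]

/-- the family of finitely generated sub-Hopf algebras -/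
abbrev Idx (k : Type u) [Field k] (A : Type u) [CommRing A] [HopfAlgebra k A] : Type u :=
  {B : Subalgebra k A // IsSubHopf (k := k) B ∧ B.FG}

section

variable (A : Type u) [CommRing A] [HopfAlgebra k A]

/-- type synonym carrying the Hopf algebra structure of a sub-Hopf algebra -/
def HB {A : Type u} [CommRing A] [HopfAlgebra k A] (B : Idx k A) : Type u := B.1

variable {A}

noncomputable instance (B : Idx k A) : CommRing (HB B) := inferInstanceAs (CommRing B.1)

noncomputable instance (B : Idx k A) : HopfAlgebra k (HB B) := B.2.1.hopf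

/-- the inclusion -/
noncomputable def val (B : Idx k A) : HB B →ₐc[k] A := B.2.1.val

theorem val_injective (B : Idx k A) : Function.Injective (val B) := B.2.1.val_injective

theorem range_val (B : Idx k A) (a : A) : a ∈ Set.range (val B) ↔ a ∈ B.1 := by
  constructor
  · rintro ⟨b, rfl⟩; exact b.2
  · intro h; exact ⟨⟨a, h⟩, rfl⟩

/-- inclusions between sub-Hopf algebras -/
noncomputable def incl {B C : Idx k A} (h : B.1 ≤ C.1) : HB B →ₐ[k] HB C := Subalgebra.inclusion h

theorem val_incl {B C : Idx k A} (h : B.1 ≤ C.1) (b : HB B) : val C (incl h b) = val B b := rfl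

theorem counit_val (B : Idx k A) (b : HB B) :
    Bialgebra.counitAlgHom k A (val B b) = Bialgebra.counitAlgHom k (HB B) b :=
  congrArg (fun f : HB B →ₗ[k] k => f b) (CoalgHomClass.counit_comp (val B))

theorem counit_incl {B C : Idx k A} (h : B.1 ≤ C.1) :
    (Bialgebra.counitAlgHom k (HB C)).comp (incl h) = Bialgebra.counitAlgHom k (HB B) := by
  ext b
  rw [AlgHom.comp_apply, ← counit_val, val_incl, counit_val]

theorem one_comp_specMap {A B : Type u} [CommRing A] [CommRing B] [HopfAlgebra k A] [HopfAlgebra k B] (f : A →ₐ[k] B)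
    (hf : (Bialgebra.counitAlgHom k B).comp f = Bialgebra.counitAlgHom k A) (T : Over (Spec (CommRingCat.of k))) :
    (1 : T ⟶ SpecOver k B) ≫ specMap k f = 1 := by
  rw [Hom.one_def, Hom.one_def, ← unitIso_hom_specMap_counit k B, ← unitIso_hom_specMap_counit k A, Category.assoc,
    Category.assoc, ← specMap_comp, hf]

theorem finiteType_HB (B : Idx k A) : Algebra.FiniteType k (HB B) :=
  (Subalgebra.fg_iff_finiteType _).mp B.2.2

end

/-- An affine group scheme over a field with a schematically dominant homomorphism from an algebraic group is of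
finite type. -/
theorem finiteType_of_dominant (A : Type u) [CommRing A] [HopfAlgebra k A] (G : Over (Spec (CommRingCat.of k)))
    [GrpObj G] [LocallyOfFiniteType G.hom] [QuasiCompact G.hom] (u : G ⟶ SpecOver k A) [IsMonHom u]
    (hu : u.left.ker = ⊥) : Algebra.FiniteType k A := by
  let f : ∀ B : Idx k A, G ⟶ SpecOver k (HB B) := fun B => u ≫ specMap k (val B : HB B →ₐ[k] A)
  have hfm : ∀ B, IsMonHom (f B) := fun B => by
    have : IsMonHom (specMap k (val B : HB B →ₐ[k] A)) := isMonHom_specMap k (val B)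
    infer_instance
  have hlft : ∀ B : Idx k A, LocallyOfFiniteType (SpecOver k (HB B)).hom := fun B =>
    (locallyOfFiniteType_specOver_iff k (HB B)).mpr (finiteType_HB B)
  have hfi : ∀ (B C : Idx k A) (h : B.1 ≤ C.1), f C ≫ specMap k (incl h) = f B := fun B C h => by
    simp only [f, Category.assoc, ← specMap_comp]
    rfl
  have hker : ∀ (B C : Idx k A) (_ : B.1 ≤ C.1) (T : Over (Spec (CommRingCat.of k))) (x : T ⟶ G),
      x ≫ f C = 1 → x ≫ f B = 1 := fun B C h T x hx => by
    rw [← hfi B C h, ← Category.assoc, hx, one_comp_specMap _ (counit_incl h)]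
  have hex : ∀ s : Set A, s.Finite → ∃ B : Idx k A, s ⊆ B.1 := fun s hs => by
    obtain ⟨B, h1, h2, h3⟩ := Groth.Agent.Books.SubHopfFG.exists_fg_subHopf (k := k) s hs
    exact ⟨⟨B, h1, h2⟩, h3⟩
  have hub : ∀ (B : Idx k A) (s : Set A), s.Finite → ∃ C : Idx k A, B.1 ≤ C.1 ∧ s ⊆ C.1 := fun B s hs => by
    obtain ⟨t, ht⟩ := B.2.2
    obtain ⟨C, hC⟩ := hex ((t : Set A) ∪ s) (t.finite_toSet.union hs)
    refine ⟨C, ?_, Set.subset_union_right.trans hC⟩
    rw [← ht]
    exact Algebra.adjoin_le (Set.subset_union_left.trans hC)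
  have hne : Nonempty (Idx k A) := by
    obtain ⟨B, -⟩ := hex ∅ Set.finite_empty
    exact ⟨B⟩
  obtain ⟨B₀, hB₀⟩ := KerIdeal.exists_min (fun B : Idx k A => SpecOver k (HB B)) f (fun B C => by
    obtain ⟨t, ht⟩ := C.2.2
    obtain ⟨D, hD1, hD2⟩ := hub B (t : Set A) t.finite_toSet
    refine ⟨D, fun T x hx => hker B D hD1 T x hx, fun T x hx => hker C D ?_ T x hx⟩
    rw [← ht]
    exact Algebra.adjoin_le hD2)
  have hdomB : ∀ B : Idx k A, Flat (f B).left ∧ Surjective (f B).left ∧ LocallyOfFinitePresentation (f B).left :=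
    fun B => by
      have := ImageFam.quasiCompact_left (f B)
      refine fppf_of_dominant G _ (f B) ?_
      rw [Over.comp_left]
      exact ker_comp_eq_bot _ _ hu (ker_specMap_eq_bot _ (val_injective B))
  have hall : ∀ B : Idx k A, B₀.1 ≤ B.1 → B.1 ≤ B₀.1 := fun B h => by
    obtain ⟨h1, h2, h3⟩ := hdomB B₀
    obtain ⟨h1', h2', h3'⟩ := hdomB B
    obtain ⟨v, hv, hfv⟩ := ImageFam.exists_desc (f B₀) (f B) (fun T x hx => hB₀ B T x hx)
    have hepi := Groth.Agent.Sga3C.QuotProps.epi_of_flat_surjective (f B)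
    have hrv : specMap k (incl h) ≫ v = 𝟙 _ := by
      rw [← cancel_epi (f B), ← Category.assoc, hfi, hfv, Category.comp_id]
    intro b hb
    have h5 : (incl h).comp (specPreimage k v) = AlgHom.id k (HB B) := by
      apply specMap_injective k
      rw [specMap_comp, specMap_specPreimage, specMap_id]
      exact hrv
    have h6 := congrArg (fun φ : HB B →ₐ[k] HB B => φ ⟨b, hb⟩) h5
    have h7 : val B (incl h (specPreimage k v ⟨b, hb⟩)) = b := congrArg (val B) h6
    rw [val_incl] at h7
    exact (range_val B₀ b).mp ⟨_, h7⟩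
  have htop : B₀.1 = ⊤ := by
    rw [eq_top_iff]
    intro a _
    obtain ⟨C, hC1, hC2⟩ := hub B₀ {a} (Set.finite_singleton a)
    exact hall C hC1 (hC2 rfl)
  exact ⟨by rw [← htop]; exact B₀.2.2⟩

end K270.DomAff
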