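import Mathlib.AlgebraicGeometry.Morphisms.Flat
import Groth.Agent.Flat2E.GenericFibre
import Groth.Agent.Models.SpecFib
import Mathlib.RingTheory.Flat.TorsionFree

/-!
# Fibres of the canonical morphism of a flat scheme to an affine scheme with the same sections
-/

set_option autoImplicit false
universe u
open CategoryTheory CategoryTheory.Limits AlgebraicGeometry TopologicalSpace Opposite

namespace K270.FibInj

/-- multiplication by the image of a nonzerodivisor is injective on the sections of a flat scheme. -/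
theorem mul_injective {S X : Scheme.{u}} (f : X ⟶ S) [Flat f] [IsAffine S] (a : Γ(S, ⊤))
    (ha : a ∈ nonZeroDivisors Γ(S, ⊤)) (U : X.Opens) (x : Γ(X, U))
    (h : (f.appLE ⊤ U le_top).hom a * x = 0) : x = 0 := by
  refine X.IsSheaf.section_ext (fun y hy => ?_)
  obtain ⟨_, ⟨V, hV, rfl⟩, hyV, hVU⟩ := X.isBasis_affineOpens.exists_subset_of_mem_open hy U.isOpen
  refine ⟨V, hVU, hyV, ?_⟩
  have hfl : (f.appLE ⊤ V le_top).hom.Flat := f.flat_appLE (isAffineOpen_top S) hV _
  have h1 : (f.appLE ⊤ V le_top).hom a * X.presheaf.map (homOfLE hVU).op x = 0 := by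
    have := congrArg (X.presheaf.map (homOfLE hVU).op).hom h
    rw [map_mul, map_zero] at this
    rw [← this]
    congr 1
    rw [← CommRingCat.comp_apply]
    rw [Scheme.Hom.appLE_map]
  have h2 : (f.appLE ⊤ V le_top).hom a ∈ nonZeroDivisors Γ(X, V) := by
    algebraize [(f.appLE ⊤ V le_top).hom]
    have h3 : IsSMulRegular Γ(X, V) a := Module.Flat.isSMulRegular_of_nonZeroDivisors ha
    refine mem_nonZeroDivisors_iff_right.mpr (fun z hz => h3 ?_)
    dsimp only
    rw [smul_zero]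
    rw [Algebra.smul_def, mul_comm]
    exact hz
  rw [map_zero]
  exact (mem_nonZeroDivisors_iff.mp h2).1 _ h1

/-- divisibility by (the image of) a nonzerodivisor is local on a flat scheme. -/
theorem exists_eq_mul {S X : Scheme.{u}} (f : X ⟶ S) [Flat f] [IsAffine S] (a : Γ(S, ⊤))
    (ha : a ∈ nonZeroDivisors Γ(S, ⊤)) (b : Γ(X, ⊤))
    (h : ∀ V : X.affineOpens, ∃ c : Γ(X, V), X.presheaf.map (homOfLE (le_top : V.1 ≤ ⊤)).op b =
      (f.appLE ⊤ V le_top).hom a * c) : ∃ c : Γ(X, ⊤), b = (f.appLE ⊤ ⊤ le_top).hom a * c := by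
  choose c hc using h
  have hcov : (⊤ : X.Opens) ≤ iSup (fun V : X.affineOpens => V.1) := by
    intro x _
    obtain ⟨_, ⟨V, hV, rfl⟩, hxV, -⟩ :=
      X.isBasis_affineOpens.exists_subset_of_mem_open (Set.mem_univ x) isOpen_univ
    exact Opens.mem_iSup.mpr ⟨⟨V, hV⟩, hxV⟩
  have hcomp : TopCat.Presheaf.IsCompatible X.presheaf (fun V : X.affineOpens => V.1) c := by
    intro V W
    rw [← sub_eq_zero]
    refine mul_injective f a ha _ _ ?_
    rw [mul_sub, sub_eq_zero]
    have e1 := congrArg (X.presheaf.map (V.1.infLELeft W.1).op).hom (hc V)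
    have e2 := congrArg (X.presheaf.map (V.1.infLERight W.1).op).hom (hc W)
    rw [map_mul] at e1 e2
    rw [← CommRingCat.comp_apply, ← CommRingCat.comp_apply, Scheme.Hom.appLE_map, ← Functor.map_comp] at e1 e2
    exact e1.symm.trans e2
  obtain ⟨s, hs, -⟩ := TopCat.Sheaf.existsUnique_gluing' X.sheaf (fun V : X.affineOpens => V.1) ⊤
    (fun V => homOfLE le_top) hcov c hcomp
  refine ⟨s, ?_⟩
  refine X.IsSheaf.section_ext (fun y hy => ?_)
  obtain ⟨_, ⟨V, hV, rfl⟩, hyV, hVU⟩ := X.isBasis_affineOpens.exists_subset_of_mem_open hy (⊤ : X.Opens).isOpen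
  refine ⟨V, hVU, hyV, ?_⟩
  rw [map_mul]
  refine (hc ⟨V, hV⟩).trans ?_
  congr 1
  · rw [← CommRingCat.comp_apply, Scheme.Hom.appLE_map]
  · exact (hs ⟨V, hV⟩).symm


theorem appLE_top {X Y : Scheme.{u}} (f : X ⟶ Y) (h) : f.appLE ⊤ ⊤ h = f.appTop :=
  f.appLE_eq_app

/-- Closed fibre of a flat scheme: the sections of the fibre over an element which dies come from multiples. -/
theorem closed_case {S T X Y : Scheme.{u}} [IsAffine S] [IsAffine T] {ι : T ⟶ S} {f : X ⟶ S} {p₁ : Y ⟶ X} {p₂ : Y ⟶ T}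
    (H : IsPullback p₁ p₂ f ι) [Flat f] (a : Γ(S, ⊤)) (ha : a ∈ nonZeroDivisors Γ(S, ⊤))
    (hsurj : Function.Surjective ι.appTop.hom) (hker : RingHom.ker ι.appTop.hom ≤ Ideal.span {a})
    (b : Γ(X, ⊤)) (hb : p₁.appTop.hom b = 0) : ∃ c : Γ(X, ⊤), b = f.appTop.hom a * c := by
  have h1 := exists_eq_mul f a ha b (fun V => ?_)
  · rw [appLE_top] at h1
    exact h1
  have hiso := isIso_pushoutSection_of_isAffineOpen H (US := ⊤) (UT := ⊤) (UX := V.1) le_top le_top rfl
    (isAffineOpen_top S) (isAffineOpen_top T) V.2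
  have hpo := (isIso_pushoutSection_iff H (US := ⊤) (UT := ⊤) (UX := V.1) le_top le_top rfl).mp hiso
  have hs' : Function.Surjective (ι.appLE ⊤ ⊤ le_top).hom := by
    rwa [appLE_top]
  obtain ⟨-, hk⟩ := Groth.Agent.Models.SpecFib.surj_ker_of_isPushout hpo hs'
  have hmem : X.presheaf.map (homOfLE (le_top : V.1 ≤ ⊤)).op b ∈
      RingHom.ker (p₁.appLE V.1 (p₁ ⁻¹ᵁ V.1 ⊓ p₂ ⁻¹ᵁ ⊤) inf_le_left).hom := by
    rw [RingHom.mem_ker, ← CommRingCat.comp_apply, Scheme.Hom.map_appLE]
    have := congrArg (Y.presheaf.map (homOfLE (le_top : (p₁ ⁻¹ᵁ V.1 ⊓ p₂ ⁻¹ᵁ ⊤) ≤ ⊤)).op).hom hb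
    rw [map_zero, ← CommRingCat.comp_apply] at this
    simpa [Scheme.Hom.appLE] using this
  rw [hk] at hmem
  have h3 : (RingHom.ker (ι.appLE ⊤ ⊤ le_top).hom).map (f.appLE ⊤ V.1 le_top).hom ≤
      Ideal.span {(f.appLE ⊤ V.1 le_top).hom a} := by
    rw [Ideal.map_le_iff_le_comap]
    intro z hz
    have hz' : z ∈ RingHom.ker ι.appTop.hom := by rwa [appLE_top] at hz
    obtain ⟨w, rfl⟩ := Ideal.mem_span_singleton'.mp (hker hz')
    rw [Ideal.mem_comap, map_mul]
    exact Ideal.mul_mem_left _ _ (Ideal.mem_span_singleton_self _)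
  obtain ⟨c, hc⟩ := Ideal.mem_span_singleton'.mp (h3 hmem)
  exact ⟨c, by rw [mul_comm, hc]⟩

/-- The map of sections on the fibre is injective -/
theorem fibre_injective {S T X Y W Z : Scheme.{u}} [IsAffine S] [IsAffine T] [IsAffine W]
    {ι : T ⟶ S} {f : X ⟶ S} {g : W ⟶ S}
    {p₁ : Y ⟶ X} {p₂ : Y ⟶ T} (H : IsPullback p₁ p₂ f ι) {q₁ : Z ⟶ W} {q₂ : Z ⟶ T} (H' : IsPullback q₁ q₂ g ι)
    (c : X ⟶ W) (hc : c ≫ g = f) (hci : IsIso c.appTop) [Flat f] [QuasiCompact f] (F : Y ⟶ Z) (hF₁ : F ≫ q₁ = p₁ ≫ c)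
    (hF₂ : F ≫ q₂ = p₂)
    (hS : (∃ a ∈ nonZeroDivisors Γ(S, ⊤), Function.Surjective ι.appTop.hom ∧ RingHom.ker ι.appTop.hom = Ideal.span {a}) ∨
      Flat ι) : Function.Injective F.appTop.hom := by
  have hpo := isPushout_appTop_of_isPullback H'
  rcases hS with ⟨a, ha, hsurj, hker⟩ | hfl
  · obtain ⟨hs', hk⟩ := Groth.Agent.Models.SpecFib.surj_ker_of_isPushout hpo hsurj
    rw [injective_iff_map_eq_zero]
    intro z hz
    obtain ⟨w, rfl⟩ := hs' z
    have h1 : p₁.appTop.hom (c.appTop.hom w) = 0 := by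
      rw [← hz]
      have := congrArg (fun m => (Scheme.Hom.appTop m).hom w) hF₁
      simpa using this.symm
    obtain ⟨b, hb⟩ := closed_case H a ha hsurj hker.le _ h1
    obtain ⟨b', rfl⟩ : ∃ b', c.appTop.hom b' = b := (ConcreteCategory.bijective_of_isIso c.appTop).2 b
    have h2 : w = g.appTop.hom a * b' := by
      apply (ConcreteCategory.bijective_of_isIso c.appTop).1
      refine hb.trans ?_
      rw [map_mul]
      congr 1
      have := congrArg (fun m => (Scheme.Hom.appTop m).hom a) hc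
      simpa using this.symm
    have h3 : w ∈ RingHom.ker q₁.appTop.hom := by
      rw [hk, h2]
      refine Ideal.mul_mem_right _ _ (Ideal.mem_map_of_mem _ ?_)
      rw [hker]
      exact Ideal.mem_span_singleton_self _
    exact h3
  · have := mono_pushoutSection_of_isCompact_of_flat_right H (US := ⊤) (UT := ⊤) (UX := ⊤) (UY := ⊤) le_top le_top
      (by simp) (isAffineOpen_top S) (isAffineOpen_top T) (by
        have : CompactSpace X := HasAffineProperty.iff_of_isAffine (P := @QuasiCompact) (f := f) |>.mp inferInstance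
        exact isCompact_univ)
    have hinj := (ConcreteCategory.mono_iff_injective_of_preservesPullback _).mp this
    have hpo2 : IsPushout (f.appLE ⊤ ⊤ le_top) (ι.appLE ⊤ ⊤ le_top) (inv c.appTop ≫ q₁.appTop) q₂.appTop := by
      rw [appLE_top, appLE_top]
      refine IsPushout.of_iso hpo (Iso.refl _) (asIso c.appTop) (Iso.refl _) (Iso.refl _) ?_ ?_ ?_ ?_
      · have := congrArg (fun m => Scheme.Hom.appTop m) hc
        simpa using this
      · simp
      · simp
      · simp
    have hF : F.appTop = hpo2.isoPushout.hom ≫ pushoutSection H (US := ⊤) (UT := ⊤) (UX := ⊤) (UY := ⊤) le_top le_top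
      (by simp) := by
      apply hpo2.hom_ext
      · rw [IsPushout.inl_isoPushout_hom_assoc, pushout.inl_desc, Category.assoc, IsIso.inv_comp_eq, appLE_top]
        have := congrArg (fun m => Scheme.Hom.appTop m) hF₁
        simpa using this
      · rw [IsPushout.inr_isoPushout_hom_assoc, pushout.inr_desc, appLE_top]
        have := congrArg (fun m => Scheme.Hom.appTop m) hF₂
        simpa using this
    rw [hF, CommRingCat.hom_comp, RingHom.coe_comp]
    exact hinj.comp (ConcreteCategory.bijective_of_isIso hpo2.isoPushout.hom).1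

end K270.FibInj
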