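import Groth.Agent.GrpSch.K270.OConn
import Groth.Agent.CalgA.RelSpecMap
import Mathlib.AlgebraicGeometry.Morphisms.QuasiSeparated

/-!
# The affine hull of a qcqs morphism

* `exists_hull`: `f = c ≫ a` with `a` affine and `OConn c`.
-/

set_option autoImplicit false
universe u
open CategoryTheory CategoryTheory.Limits AlgebraicGeometry TopologicalSpace Opposite
open AlgebraicGeometry.Scheme AlgebraicGeometry.Scheme.AffineZariskiSite
open Groth.Agent.CohqB

namespace K270.Hull

variable {X S : Scheme.{u}} (f : X ⟶ S)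

/-- The functor `U ↦ Γ(X, f⁻¹ U)` on the affine Zariski site. -/
noncomputable def F : S.AffineZariskiSiteᵒᵖ ⥤ CommRingCat.{u} where
  obj U := Γ(X, f ⁻¹ᵁ U.unop.toOpens)
  map i := X.presheaf.map (homOfLE (f.preimage_mono (toOpens_mono i.unop.le))).op
  map_id U := X.presheaf.map_id _
  map_comp i j := by rw [← X.presheaf.map_comp]; rfl

/-- The structure map. -/
noncomputable def α : (toOpensFunctor S).op ⋙ S.presheaf ⟶ F f where
  app U := f.app U.unop.toOpens
  naturality U V i := f.naturality ((toOpensFunctor S).op.map i)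

theorem coequifibered [QuasiCompact f] [QuasiSeparated f] : (α f).Coequifibered := by
  refine coequifibered_iff_forall_isLocalizationAway.mpr fun U r ↦ ?_
  let inst : Algebra Γ(X, f ⁻¹ᵁ U.1) Γ(X, f ⁻¹ᵁ S.basicOpen r) :=
    (X.presheaf.map (homOfLE (f.preimage_mono (S.basicOpen_le r))).op).hom.toAlgebra
  have : IsLocalization.Away ((f.app U.1) r)
      Γ(X, f ⁻¹ᵁ S.basicOpen r) := by
    let : Algebra Γ(X, f ⁻¹ᵁ U.1) Γ(X, X.basicOpen (f.app _ r)) :=
      (X.presheaf.map (homOfLE (X.basicOpen_le _)).op).hom.toAlgebra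
    dsimp +instances [inst]
    rw! (castMode := .all) [f.preimage_basicOpen r]
    exact isLocalization_basicOpen_of_qcqs (f.isCompact_preimage U.2.isCompact)
        (f.isQuasiSeparated_preimage U.2.isQuasiSeparated) (f.app _ r)
  exact this

/-- The affine hull. -/
noncomputable def hull [QuasiCompact f] [QuasiSeparated f] : Scheme.{u} :=
  RelSpec.obj (coequifibered f)

/-- The affine structure morphism. -/
noncomputable def toBase [QuasiCompact f] [QuasiSeparated f] : hull f ⟶ S :=
  RelSpec.toBase (coequifibered f)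

/-- The lift data of the canonical morphism. -/
noncomputable def liftData : RelSpec.LiftData (α f) f where
  ψ U := 𝟙 _
  nat i := (Category.comp_id ((F f).map i.op)).trans (Category.id_comp ((F f).map i.op)).symm
  comp U := Category.comp_id _

/-- The canonical morphism to the hull. -/
noncomputable def can [QuasiCompact f] [QuasiSeparated f] : X ⟶ hull f :=
  RelSpec.lift (coequifibered f) (liftData f)

theorem can_toBase [QuasiCompact f] [QuasiSeparated f] : can f ≫ toBase f = f :=
  RelSpec.lift_toBase _ _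

instance [QuasiCompact f] [QuasiSeparated f] : IsAffineHom (toBase f) :=
  RelSpec.isAffineHom_toBase _

theorem bijective_affine [QuasiCompact f] [QuasiSeparated f] (U : S.Opens) (hU : IsAffineOpen U) :
    Function.Bijective ((can f).app (toBase f ⁻¹ᵁ U)).hom := by
  have h1 := Groth.Agent.CalgA.RelSpecMap.lift_appLE (coequifibered f) (liftData f) ⟨U, hU⟩
  have h2 : IsIso ((can f).appLE (toBase f ⁻¹ᵁ U) (f ⁻¹ᵁ U)
      (Groth.Agent.CalgA.RelSpecMap.lift_preimage_ge (coequifibered f) (liftData f) ⟨U, hU⟩)) := by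
    have h3 : IsIso ((Groth.Agent.CalgA.RelSpecMap.sectionHom (coequifibered f) ⟨U, hU⟩) ≫
      (liftData f).ψ ⟨U, hU⟩) := by
      have : IsIso ((liftData f).ψ ⟨U, hU⟩) :=
        inferInstanceAs (IsIso (𝟙 ((F f).obj (op ⟨U, hU⟩))))
      infer_instance
    exact h1 ▸ h3
  have h4 : f ⁻¹ᵁ U = can f ⁻¹ᵁ (toBase f ⁻¹ᵁ U) := by
    rw [← Scheme.Hom.comp_preimage, can_toBase]
  have h5 : ∀ (W : X.Opens) (e : W ≤ can f ⁻¹ᵁ (toBase f ⁻¹ᵁ U)) (_ : W = can f ⁻¹ᵁ (toBase f ⁻¹ᵁ U)),
      IsIso ((can f).appLE (toBase f ⁻¹ᵁ U) W e) → IsIso ((can f).app (toBase f ⁻¹ᵁ U)) := by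
    rintro W e rfl h
    rwa [Scheme.Hom.appLE_eq_app] at h
  have := h5 _ _ h4 h2
  exact ConcreteCategory.bijective_of_isIso _

/-- If `c.app W` is bijective for an affine open `W`, then so is `c.app (D g)`. -/
theorem bijective_basicOpen {X Y : Scheme.{u}} (c : X ⟶ Y) [QuasiCompact c] [QuasiSeparated c]
    {W : Y.Opens} (hW : IsAffineOpen W) (h : Function.Bijective (c.app W).hom) (g : Γ(Y, W)) :
    Function.Bijective (c.app (Y.basicOpen g)).hom := by
  let i1 : Algebra Γ(Y, W) Γ(Y, Y.basicOpen g) :=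
    (Y.presheaf.map (homOfLE (Y.basicOpen_le g)).op).hom.toAlgebra
  let i2 : Algebra Γ(X, c ⁻¹ᵁ W) Γ(X, c ⁻¹ᵁ Y.basicOpen g) :=
    (X.presheaf.map (homOfLE (c.preimage_mono (Y.basicOpen_le g))).op).hom.toAlgebra
  have l1 : IsLocalization (Submonoid.powers g) Γ(Y, Y.basicOpen g) :=
    hW.isLocalization_basicOpen g
  have l2 : IsLocalization (Submonoid.powers ((c.app W) g)) Γ(X, c ⁻¹ᵁ Y.basicOpen g) := by
    let : Algebra Γ(X, c ⁻¹ᵁ W) Γ(X, X.basicOpen (c.app _ g)) :=
      (X.presheaf.map (homOfLE (X.basicOpen_le _)).op).hom.toAlgebra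
    dsimp +instances [i2]
    rw! (castMode := .all) [c.preimage_basicOpen g]
    exact isLocalization_basicOpen_of_qcqs (c.isCompact_preimage hW.isCompact)
        (c.isQuasiSeparated_preimage hW.isQuasiSeparated) (c.app _ g)
  let e : Γ(Y, W) ≃+* Γ(X, c ⁻¹ᵁ W) := RingEquiv.ofBijective (c.app W).hom h
  have hM : Submonoid.map (e : Γ(Y, W) ≃* Γ(X, c ⁻¹ᵁ W)).toMonoidHom (Submonoid.powers g) =
      Submonoid.powers ((c.app W) g) := Submonoid.map_powers _ _
  let e' : Γ(Y, Y.basicOpen g) ≃+* Γ(X, c ⁻¹ᵁ Y.basicOpen g) :=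
    IsLocalization.ringEquivOfRingEquiv (M := Submonoid.powers g)
      (T := Submonoid.powers ((c.app W) g)) _ _ e hM
  have key : (c.app (Y.basicOpen g)).hom = (e' : Γ(Y, Y.basicOpen g) →+* Γ(X, c ⁻¹ᵁ Y.basicOpen g)) := by
    refine IsLocalization.ringHom_ext (Submonoid.powers g) ?_
    ext a
    have e1 := congrArg (fun φ => φ.hom a) (c.naturality (homOfLE (Y.basicOpen_le g)).op)
    refine Eq.trans e1 ?_
    exact (IsLocalization.ringEquivOfRingEquiv_eq (M := Submonoid.powers g)
      (T := Submonoid.powers ((c.app W) g)) (j := e) (H := hM) a).symm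
  rw [key]
  exact e'.bijective

instance quasiCompact_can [QuasiCompact f] [QuasiSeparated f] : QuasiCompact (can f) := by
  have : QuasiCompact (can f ≫ toBase f) := by rw [can_toBase]; infer_instance
  exact QuasiCompact.of_comp (can f) (toBase f)

instance quasiSeparated_can [QuasiCompact f] [QuasiSeparated f] : QuasiSeparated (can f) := by
  have : QuasiSeparated (can f ≫ toBase f) := by rw [can_toBase]; infer_instance
  exact QuasiSeparated.of_comp (can f) (toBase f)

theorem oconn_can [QuasiCompact f] [QuasiSeparated f] : OConn.OConn (can f) := by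
  refine OConn.of_basis (can f) {V | ∃ (U : S.Opens) (_ : IsAffineOpen U)
    (g : Γ(hull f, toBase f ⁻¹ᵁ U)), V = (hull f).basicOpen g} ?_ ?_
  · intro y W hyW
    obtain ⟨_, ⟨U, hU, rfl⟩, hyU, -⟩ :=
      S.isBasis_affineOpens.exists_subset_of_mem_open (Set.mem_univ (toBase f y)) isOpen_univ
    have hUa : IsAffineOpen (toBase f ⁻¹ᵁ U) := IsAffineOpen.preimage hU (toBase f)
    obtain ⟨g, hg, hyg⟩ := hUa.exists_basicOpen_le (V := W) ⟨y, hyW⟩ hyU
    exact ⟨_, ⟨U, hU, g, rfl⟩, hyg, hg⟩
  · rintro V ⟨U, hU, g, rfl⟩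
    exact bijective_basicOpen (can f) (IsAffineOpen.preimage hU (toBase f))
      (bijective_affine f U hU) g

/-- Existence of the affine hull. -/
theorem exists_hull [QuasiCompact f] [QuasiSeparated f] :
    ∃ (Y : Scheme.{u}) (c : X ⟶ Y) (a : Y ⟶ S), IsAffineHom a ∧ OConn.OConn c ∧ c ≫ a = f :=
  ⟨hull f, can f, toBase f, inferInstance, oconn_can f, can_toBase f⟩

end K270.Hull
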