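import Groth.Agent.GrpSch.K270.OConn
import Mathlib.AlgebraicGeometry.Morphisms.Separated
import Mathlib.AlgebraicGeometry.Morphisms.IsIso

/-!
# Orthogonality: `OConn` morphisms against affine / separated morphisms

* `hom_ext`, `exists_lift`, `isIso_of_affine`
-/

set_option autoImplicit false
universe u
open CategoryTheory CategoryTheory.Limits AlgebraicGeometry TopologicalSpace Opposite

namespace K270.OConn

/-- Two morphisms to a separated target agreeing on a schematically dominant part agree. -/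
theorem hom_ext {X Y Z W : Scheme.{u}} (c : X ⟶ Y) [IsSchemeTheoreticallyDominant c]
    (s : Z ⟶ W) [IsSeparated s] {g₁ g₂ : Y ⟶ Z} (h : g₁ ≫ s = g₂ ≫ s)
    (hc : c ≫ g₁ = c ≫ g₂) : g₁ = g₂ := by
  let X' : Over W := Over.mk (g₁ ≫ s)
  let Y' : Over W := Over.mk s
  let U' : Over W := Over.mk (c ≫ g₁ ≫ s)
  let f' : X' ⟶ Y' := Over.homMk g₁
  let g' : X' ⟶ Y' := Over.homMk g₂
  let ι' : U' ⟶ X' := Over.homMk c
  have : IsSeparated Y'.hom := ‹_›
  let k := (equalizer.lift (f := f') (g := g') ι' (by ext1; exact hc))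
  have hk : k.left ≫ (equalizer.ι f' g').left = c := by
    rw [← Over.comp_left, equalizer.lift_ι]
    rfl
  have hker : ((equalizer.ι f' g').left).ker = (𝟙 Y : Y ⟶ Y).ker := by
    rw [Scheme.Hom.ker_eq_bot_of_isIso (𝟙 Y), ← le_bot_iff, ← Scheme.Hom.ker_eq_bot c, ← hk]
    exact Scheme.Hom.le_ker_comp _ _
  have := IsClosedImmersion.isIso_of_ker_eq (Z₂ := Y) (equalizer.ι f' g').left (𝟙 Y) (equalizer.ι f' g').left
    (Category.comp_id _) hker
  rw [← cancel_epi (equalizer.ι f' g').left]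
  exact congr($(equalizer.condition f' g').left)

/-- An affine morphism bijective on sections over affine opens is an isomorphism. -/
theorem isIso_of_affine {Z Y : Scheme.{u}} (p : Z ⟶ Y) [IsAffineHom p]
    (h : ∀ V : Y.Opens, IsAffineOpen V → Function.Bijective (p.app V).hom) : IsIso p := by
  change MorphismProperty.isomorphisms Scheme p
  rw [HasAffineProperty.eq_targetAffineLocally (MorphismProperty.isomorphisms Scheme)]
  intro V
  have h1 := h V.1 V.2
  have : IsAffine (p ⁻¹ᵁ V.1) := IsAffineOpen.preimage V.2 p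
  refine ⟨this, ?_⟩
  have h2 : IsIso (p.app V.1) := (ConcreteCategory.isIso_iff_bijective _).mpr h1
  rw [morphismRestrict_appTop]
  have h3 : V.1.ι ''ᵁ ⊤ = V.1 := by simp
  have h4 : ∀ (W : Y.Opens), W = V.1 → IsIso (p.app W) := by
    rintro W rfl
    exact h2
  have h5 := h4 _ h3
  refine IsIso.comp_isIso' h5 ?_
  have h6 : ∀ (A B : (Z.Opens)) (e : A = B), IsIso (Z.presheaf.map (eqToHom e).op) := by
    rintro A B rfl
    infer_instance
  exact h6 _ _ _

/-- If `i ≫ p = c` with `c` `OConn`, `p` affine and `i` the map to the image, `p` is iso. -/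
theorem exists_section {X Y P : Scheme.{u}} {c : X ⟶ Y} (hc : OConn c) (x : X ⟶ P) (p : P ⟶ Y)
    [IsAffineHom p] (h : x ≫ p = c) : ∃ s : Y ⟶ P, s ≫ p = 𝟙 Y ∧ c ≫ s = x := by
  have := hc.qc
  have : QuasiCompact (x ≫ p) := h ▸ hc.qc
  have : QuasiCompact x := QuasiCompact.of_comp x p
  let q : x.image ⟶ Y := x.imageι ≫ p
  have hq : IsIso q := by
    refine isIso_of_affine q fun V hV => ?_
    have hV' : IsAffineOpen (p ⁻¹ᵁ V) := IsAffineOpen.preimage hV p
    have h1 : Function.Injective (x.toImage.app (x.imageι ⁻¹ᵁ (p ⁻¹ᵁ V))).hom :=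
      x.toImage_app_injective ⟨_, hV'⟩
    have h2 : x.toImage ≫ q = c := by
      simp [q, h]
    have h3 : Function.Bijective ((x.toImage ≫ q).app V).hom := by
      rw [h2]; exact hc.bij V
    have h4 : ((x.toImage ≫ q).app V).hom = (x.toImage.app (q ⁻¹ᵁ V)).hom.comp (q.app V).hom := by
      rw [Scheme.Hom.comp_app]; rfl
    rw [h4] at h3
    have h5 : Function.Injective (x.toImage.app (q ⁻¹ᵁ V)).hom := h1
    refine ⟨fun a b hab => h3.1 (congrArg (x.toImage.app (q ⁻¹ᵁ V)).hom hab), fun b => ?_⟩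
    obtain ⟨a, ha⟩ := h3.2 ((x.toImage.app (q ⁻¹ᵁ V)).hom b)
    exact ⟨a, h5 ha⟩
  refine ⟨inv q ≫ x.imageι, ?_, ?_⟩
  · rw [Category.assoc]; exact IsIso.inv_hom_id q
  · have h2 : c = x.toImage ≫ q := by
      simp [q, h]
    rw [h2, Category.assoc, IsIso.hom_inv_id_assoc, Scheme.Hom.toImage_imageι]

/-- The lifting property. -/
theorem exists_lift {X Y Z W : Scheme.{u}} {c : X ⟶ Y} (hc : OConn c) (b : Z ⟶ W) [IsAffineHom b]
    (h : X ⟶ Z) (g : Y ⟶ W) (w : h ≫ b = c ≫ g) : ∃ l : Y ⟶ Z, l ≫ b = g ∧ c ≫ l = h := by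
  have : IsAffineHom (pullback.fst g b) :=
    MorphismProperty.pullback_fst (P := @IsAffineHom) g b inferInstance
  obtain ⟨s, hs1, hs2⟩ := exists_section hc (pullback.lift c h w.symm) (pullback.fst g b)
    (pullback.lift_fst _ _ _)
  refine ⟨s ≫ pullback.snd g b, ?_, ?_⟩
  · rw [Category.assoc, ← pullback.condition, reassoc_of% hs1]
  · rw [reassoc_of% hs2, pullback.lift_snd]

end K270.OConn
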