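import Groth.Agent.GrpSch.K270.HullFlat
import Groth.Agent.GrpSch.K270.Orth
import Groth.Agent.Sga3.H787.FlatAff

/-!
# Fibres of an `OConn` morphism from a flat scheme over a Dedekind domain are schematically dominant
-/

set_option autoImplicit false
universe u
open CategoryTheory MonoidalCategory CartesianMonoidalCategory AlgebraicGeometry Limits

namespace K270.HullFib

open K270.OConn Groth.Agent.Sga3.H788 Groth.Agent.Sga3.H788.DedAff Groth.Agent.Sga3.H788.DedInj
  Groth.Agent.Sga3C.Affinization Groth.Agent.Sga3.H788.Assembly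

theorem isPullback_map_left {S T : Scheme.{u}} (g : T ⟶ S) {X Y : Over S} (f : X ⟶ Y) :
    IsPullback ((Over.pullback g).map f).left (pullback.fst X.hom g) (pullback.fst Y.hom g) f.left := by
  have h3 : ((Over.pullback g).map f).left ≫ pullback.fst Y.hom g = pullback.fst X.hom g ≫ f.left :=
    pullback.lift_fst _ _ _
  have h4 : ((Over.pullback g).map f).left ≫ pullback.snd Y.hom g = pullback.snd X.hom g :=
    pullback.lift_snd _ _ _
  have h6 := (IsPullback.of_hasPullback X.hom g).flip
  have h7 := (IsPullback.of_hasPullback Y.hom g).flip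
  refine IsPullback.of_right ?_ h3 h7
  rw [h4, Over.w f]
  exact h6

theorem isIso_appTop {X Y : Scheme.{u}} (f : X ⟶ Y) (h : IsIso f) : IsIso f.appTop :=
  inferInstanceAs (IsIso (f.app ⊤))

theorem quasiCompact_map {S T : Scheme.{u}} (g : T ⟶ S) {X Y : Over S} (f : X ⟶ Y)
    [QuasiCompact f.left] : QuasiCompact ((Over.pullback g).map f).left :=
  MorphismProperty.of_isPullback (P := @QuasiCompact) (isPullback_map_left g f).flip inferInstance

/-- A criterion for schematic dominance. -/
theorem dominant_of_cover {X Y : Scheme.{u}} (f : X ⟶ Y) {ι : Type*} (U : ι → Y.affineOpens)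
    (hU : ⨆ i, (U i).1 = ⊤) (A B : ι → Scheme.{u}) (f' : ∀ i, A i ⟶ B i) (g' : ∀ i, A i ⟶ X)
    (g : ∀ i, B i ⟶ Y) (w : ∀ i, g' i ≫ f = f' i ≫ g i)
    (hd : ∀ i, IsSchemeTheoreticallyDominant (f' i))
    (hg : ∀ i, Function.Injective ((g i).app (U i).1).hom) : IsSchemeTheoreticallyDominant f := by
  refine ⟨Scheme.IdealSheafData.ext_of_iSup_eq_top U hU fun i => ?_⟩
  rw [Scheme.IdealSheafData.ideal_bot, Pi.bot_apply, ← le_bot_iff]
  have h1 : f.ker ≤ (g i).ker := by
    refine (Scheme.Hom.le_ker_comp (g' i) f).trans ?_
    rw [w, Scheme.Hom.ker_comp, (hd i).ker_eq_bot, Scheme.IdealSheafData.map_bot]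
  refine (h1 (U i)).trans ?_
  refine (Scheme.IdealSheafData.ideal_ofIdeals_le _ _).trans ?_
  dsimp only
  rw [(RingHom.injective_iff_ker_eq_bot _).mp (hg i)]

variable {R : Type u} [CommRing R]

theorem injective_of_affinization [IsDedekindDomain R] (k : Type u) [Field k] [Algebra R k]
    {X X' : Over (Spec (CommRingCat.of R))} [Flat X.hom] [CompactSpace X.left] (a : X ⟶ X')
    (ha : IsAffinization a) :
    Function.Injective ((Over.pullback (sm R k)).map a).left.appTop := by
  have h1 : IsAffine (affOver X).left := inferInstanceAs (IsAffine (Spec _))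
  have h2 := ha.isAffine
  obtain ⟨m, hm⟩ := ha.exists_fac (toAff X)
  have h3 := ha.isIso
  have h4 := (isAffinization_toAff X).isIso
  have h5 : IsIso m.left.appTop := by
    have h6 : m.left.appTop ≫ a.left.appTop = (toAff X).left.appTop := by
      rw [← hm, Over.comp_left, Scheme.Hom.comp_appTop]
    have h7 : m.left.appTop = (toAff X).left.appTop ≫ inv a.left.appTop := by
      rw [← h6, Category.assoc, IsIso.hom_inv_id, Category.comp_id]
    rw [h7]
    infer_instance
  have h6 : IsIso m.left := by
    have h : m.left = X'.left.isoSpec.hom ≫ Spec.map m.left.appTop ≫ (affOver X).left.isoSpec.inv := by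
      rw [← Category.assoc, Scheme.isoSpec_hom_naturality, Category.assoc, Iso.hom_inv_id,
        Category.comp_id]
    rw [h]
    infer_instance
  have h7 : IsIso m := by
    have : IsIso ((Over.forget _).map m) := h6
    exact isIso_of_reflects_iso m (Over.forget _)
  have h8 := injective_appTop X k
  have h9 : bcAff X k = (Over.pullback (sm R k)).map a ≫ (Over.pullback (sm R k)).map m := by
    rw [← Functor.map_comp, hm]
  rw [h9, Over.comp_left, Scheme.Hom.comp_appTop] at h8
  have h10' : IsIso ((Over.pullback (sm R k)).map m).left :=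
    inferInstanceAs (IsIso ((Over.forget _).map ((Over.pullback (sm R k)).map m)))
  have h10 : IsIso ((Over.pullback (sm R k)).map m).left.appTop := isIso_appTop _ h10'
  have h11 : ((Over.pullback (sm R k)).map a).left.appTop =
      inv ((Over.pullback (sm R k)).map m).left.appTop ≫
        (((Over.pullback (sm R k)).map m).left.appTop ≫ ((Over.pullback (sm R k)).map a).left.appTop) := by
    rw [IsIso.inv_hom_id_assoc]
  rw [h11]
  have h12 : Function.Injective (inv ((Over.pullback (sm R k)).map m).left.appTop) :=
    (ConcreteCategory.bijective_of_isIso _).1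
  exact h8.comp h12

theorem dominant_of_affinization [IsDedekindDomain R] (k : Type u) [Field k] [Algebra R k]
    {X X' : Over (Spec (CommRingCat.of R))} [Flat X.hom] [CompactSpace X.left] (a : X ⟶ X')
    (ha : IsAffinization a) : IsSchemeTheoreticallyDominant ((Over.pullback (sm R k)).map a).left := by
  have := ha.isAffine
  have h1 : QuasiCompact a.left := inferInstance
  have h2 := quasiCompact_map (sm R k) a
  have h3 : IsAffine ((Over.pullback (sm R k)).obj X').left :=
    inferInstanceAs (IsAffine (pullback X'.hom (sm R k)))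
  exact Groth.Agent.Sga3.H787.FlatAff.dominant_of_injective _ (injective_of_affinization k a ha)

section

variable {G G' : Over (Spec (CommRingCat.of R))} (c : G ⟶ G') (V : G'.left.Opens)

/-- the restriction of the source -/
noncomputable abbrev resX : Over (Spec (CommRingCat.of R)) := Over.mk ((c.left ⁻¹ᵁ V).ι ≫ G.hom)

/-- the restriction of the target -/
noncomputable abbrev resY {G' : Over (Spec (CommRingCat.of R))} (V : G'.left.Opens) :
    Over (Spec (CommRingCat.of R)) := Over.mk (V.ι ≫ G'.hom)

/-- the restriction -/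
noncomputable abbrev resc : resX c V ⟶ resY V := Over.homMk (c.left ∣_ V) (by
  change (c.left ∣_ V) ≫ V.ι ≫ G'.hom = (c.left ⁻¹ᵁ V).ι ≫ G.hom
  rw [morphismRestrict_ι_assoc, Over.w])

/-- the inclusion of the source -/
noncomputable abbrev inX : resX c V ⟶ G := Over.homMk (c.left ⁻¹ᵁ V).ι rfl

/-- the inclusion of the target -/
noncomputable abbrev inY {G' : Over (Spec (CommRingCat.of R))} (V : G'.left.Opens) :
    resY V ⟶ G' := Over.homMk V.ι rfl

theorem isAffinization_resc (hc : OConn c.left) (hV : IsAffineOpen V) : IsAffinization (resc c V) := by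
  refine ⟨hV, ?_⟩
  change IsIso ((c.left ∣_ V).appTop)
  rw [morphismRestrict_appTop]
  have h2 : IsIso (c.left.app V) := (ConcreteCategory.isIso_iff_bijective _).mpr (hc.bij V)
  have h3 : V.ι ''ᵁ ⊤ = V := by simp
  have h4 : ∀ (W : G'.left.Opens), W = V → IsIso (c.left.app W) := by
    rintro W rfl
    exact h2
  have h5 := h4 _ h3
  refine IsIso.comp_isIso' h5 ?_
  have h6 : ∀ (A B : (G.left.Opens)) (e : A = B), IsIso (G.left.presheaf.map (eqToHom e).op) := by
    rintro A B rfl
    infer_instance
  exact h6 _ _ _

end

/-- Fibres of an `OConn` morphism from a flat scheme over a Dedekind domain are schematically dominant. -/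
theorem dominant_bc [IsDedekindDomain R] (k : Type u) [Field k] [Algebra R k]
    {G G' : Over (Spec (CommRingCat.of R))} (c : G ⟶ G') (hc : OConn c.left) [Flat G.hom] :
    IsSchemeTheoreticallyDominant ((Over.pullback (sm R k)).map c).left := by
  have hqc := hc.qc
  let q : ((Over.pullback (sm R k)).obj G').left ⟶ G'.left := pullback.fst G'.hom (sm R k)
  have hq : IsAffineHom q := by
    have : IsAffineHom (sm R k) := inferInstance
    exact MorphismProperty.pullback_fst (P := @IsAffineHom) G'.hom (sm R k) inferInstance
  refine dominant_of_cover ((Over.pullback (sm R k)).map c).left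
    (fun V : G'.left.affineOpens => ⟨q ⁻¹ᵁ V.1, IsAffineOpen.preimage V.2 q⟩) ?_
    (fun V => ((Over.pullback (sm R k)).obj (resX c V.1)).left)
    (fun V => ((Over.pullback (sm R k)).obj (resY V.1)).left)
    (fun V => ((Over.pullback (sm R k)).map (resc c V.1)).left)
    (fun V => ((Over.pullback (sm R k)).map (inX c V.1)).left)
    (fun V => ((Over.pullback (sm R k)).map (inY V.1)).left) ?_ ?_ ?_
  · rw [← Scheme.Hom.preimage_iSup, iSup_affineOpens_eq_top]
    rfl
  · intro V
    rw [← Over.comp_left, ← Over.comp_left, ← Functor.map_comp, ← Functor.map_comp]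
    congr 2
    ext1
    exact (morphismRestrict_ι c.left V.1).symm
  · intro V
    have h1 : Flat (resX c V.1).hom := by
      change Flat ((c.left ⁻¹ᵁ V.1).ι ≫ G.hom)
      infer_instance
    have h2 : CompactSpace (resX c V.1).left :=
      isCompact_iff_compactSpace.mp (c.left.isCompact_preimage V.2.isCompact)
    exact dominant_of_affinization k (resc c V.1) (isAffinization_resc c V.1 hc V.2)
  · intro V
    have h1 := isPullback_map_left (sm R k) (inY V.1)
    have h2 : IsOpenImmersion ((Over.pullback (sm R k)).map (inY V.1)).left :=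
      MorphismProperty.of_isPullback (P := @IsOpenImmersion) h1.flip
        (inferInstanceAs (IsOpenImmersion V.1.ι))
    have h3 : q ⁻¹ᵁ V.1 ≤ ((Over.pullback (sm R k)).map (inY V.1)).left.opensRange := by
      intro x hx
      have h4 : ((Over.pullback (sm R k)).map (inY V.1)).left =
          h1.flip.isoPullback.hom ≫ pullback.snd (inY V.1).left q := by
        rw [IsPullback.isoPullback_hom_snd]
      obtain ⟨z, hz1, hz2⟩ := Scheme.Pullback.exists_preimage_pullback (f := (inY V.1).left) (g := q)
        (⟨q x, hx⟩ : V.1) x rfl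
      refine ⟨h1.flip.isoPullback.inv z, ?_⟩
      have h5 : h1.flip.isoPullback.inv ≫ ((Over.pullback (sm R k)).map (inY V.1)).left =
          pullback.snd (inY V.1).left q := h1.flip.isoPullback_inv_snd
      rw [← Scheme.Hom.comp_apply]
      refine Eq.trans ?_ hz2
      exact congrArg (fun f => f z) h5
    have h4 := ((Over.pullback (sm R k)).map (inY V.1)).left.isIso_app
      (q ⁻¹ᵁ V.1) h3
    exact (ConcreteCategory.bijective_of_isIso _).1

end K270.HullFib
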