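import Groth.Agent.GrpSch.K270.OConn
import Groth.Agent.Sga3.H788.Assembly

/-!
# Flatness of the hull over a Dedekind domain, and its fibres
-/

set_option autoImplicit false
universe u
open CategoryTheory MonoidalCategory CartesianMonoidalCategory AlgebraicGeometry Limits

namespace K270.HullFlat

open K270.OConn Groth.Agent.Sga3.H788 Groth.Agent.Sga3.H788.DedAff Groth.Agent.Sga3.H788.DedInj
  Groth.Agent.Sga3C.Affinization

variable {R : Type u} [CommRing R]

theorem toSec_app {X Y : Over (Spec (CommRingCat.of R))} (c : X ⟶ Y) (V : Y.left.Opens) :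
    toSec Y V ≫ c.left.app V = toSec X (c.left ⁻¹ᵁ V) := by
  rw [toSec, toSec, Category.assoc, Scheme.Hom.app_eq_appLE, Scheme.Hom.appLE_comp_appLE]
  congr 1
  have h : c.left ≫ Y.hom = X.hom := Over.w c
  have : ∀ (f g : X.left ⟶ Spec (CommRingCat.of R)) (h : f = g) (U) (e : U ≤ f ⁻¹ᵁ ⊤) (e' : U ≤ g ⁻¹ᵁ ⊤),
      f.appLE ⊤ U e = g.appLE ⊤ U e' := by
    rintro f g rfl U e e'
    rfl
  exact this _ _ h _ _ _

theorem flat_of_toSec (Y : Over (Spec (CommRingCat.of R)))
    (h : ∀ V : Y.left.Opens, IsAffineOpen V → (toSec Y V).hom.Flat) : Flat Y.hom := by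
  rw [IsZariskiLocalAtSource.iff_of_iSup_eq_top (P := @Flat) (fun V : Y.left.affineOpens => V.1)
    (iSup_affineOpens_eq_top _)]
  intro V
  rw [← V.2.isoSpec_hom_fromSpec, Category.assoc, Assembly.fromSpec_hom Y V.2]
  rw [Assembly.ofHom_algebraMap]
  have : Flat (Spec.map (toSec Y V.1)) := by
    rw [HasRingHomProperty.Spec_iff (P := @Flat)]
    exact h V.1 V.2
  infer_instance

/-- The target of a schematically dominant morphism from a flat scheme is flat. -/
theorem flat_of_injective [IsDedekindDomain R] {X Y : Over (Spec (CommRingCat.of R))} (c : X ⟶ Y)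
    (hc : ∀ V : Y.left.Opens, Function.Injective (c.left.app V).hom) [Flat X.hom] : Flat Y.hom := by
  refine flat_of_toSec Y fun V _ => ?_
  let _ := (toSec Y V).hom.toAlgebra
  have : Module.IsTorsionFree R Γ(Y.left, V) := by
    rw [Module.isTorsionFree_iff_smul_eq_zero]
    intro r m hrm
    by_cases hr : r = 0
    · exact Or.inl hr
    · refine Or.inr (hc V ?_)
      rw [map_zero]
      refine eq_zero_of_mul_eq_zero X (c.left ⁻¹ᵁ V) r hr _ ?_
      rw [← toSec_app]
      have h1 : (toSec Y V).hom r * m = 0 := hrm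
      have h2 := congrArg (c.left.app V).hom h1
      rw [map_mul, map_zero] at h2
      exact h2
  change Module.Flat R Γ(Y.left, V)
  infer_instance

end K270.HullFlat
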