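import Groth.Agent.GrpSch.K270.KerIdeal
import Groth.Agent.S3034
import Groth.Agent.S0346
import Groth.Agent.Sga3C.QuotProps

/-!
# Common image of a directed family of homomorphisms of algebraic groups over a field
-/

set_option autoImplicit false
universe u
open CategoryTheory CategoryTheory.Limits MonoidalCategory CartesianMonoidalCategory MonObj AlgebraicGeometry

namespace K270.ImageFam

variable {k : Type u} [Field k]

theorem flat_hom (G : Over (Spec (CommRingCat.of k))) : Flat G.hom := by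
  have : Subsingleton (Spec (CommRingCat.of k)) := inferInstanceAs (Subsingleton (PrimeSpectrum k))
  infer_instance

theorem isSeparated_hom (G : Over (Spec (CommRingCat.of k))) [GrpObj G] : IsSeparated G.hom :=
  (Groth.Agent.S0346.result _ G).1.mpr inferInstance

theorem quasiCompact_left {G H : Over (Spec (CommRingCat.of k))} [GrpObj H] [QuasiCompact G.hom] (u : G ⟶ H) :
    QuasiCompact u.left := by
  have := isSeparated_hom H
  have : QuasiCompact (u.left ≫ H.hom) := by rw [Over.w]; infer_instance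
  exact QuasiCompact.of_comp u.left H.hom

/-- Image factorisation over a field. -/
theorem exists_factor (G H : Over (Spec (CommRingCat.of k))) [GrpObj G] [GrpObj H] [LocallyOfFiniteType G.hom]
    [LocallyOfFiniteType H.hom] (u : G ⟶ H) [IsMonHom u] [QuasiCompact u.left] :
    ∃ (C : Over (Spec (CommRingCat.of k))) (_ : GrpObj C) (p : G ⟶ C) (i : C ⟶ H), IsMonHom p ∧ IsMonHom i ∧
      p ≫ i = u ∧ Flat p.left ∧ Surjective p.left ∧ LocallyOfFinitePresentation p.left ∧ IsClosedImmersion i.left := by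
  have := flat_hom G
  refine Groth.Agent.S3034.result k G H u ?_
  exact flat_hom (Over.mk (pullback.snd u.left (η[H] : 𝟙_ (Over (Spec (CommRingCat.of k))) ⟶ H).left))

/-- A homomorphism from the source of a faithfully flat homomorphism which kills the kernel descends. -/
theorem exists_desc {S : Scheme.{u}} {G C H : Over S} [GrpObj G] [GrpObj C] [GrpObj H] (p : G ⟶ C) [IsMonHom p]
    [Flat p.left] [Surjective p.left] [LocallyOfFinitePresentation p.left] (f : G ⟶ H) [IsMonHom f]
    (hf : ∀ (T : Over S) (x : T ⟶ G), x ≫ p = 1 → x ≫ f = 1) : ∃ v : C ⟶ H, IsMonHom v ∧ p ≫ v = f := by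
  obtain ⟨v, hv⟩ := Groth.Agent.Sga3C.QuotProps.exists_desc p f (fun T x y hxy => by
    have h1 : (x * y⁻¹) ≫ p = 1 := by
      rw [MonObj.mul_comp, GrpObj.inv_comp, hxy, mul_inv_cancel]
    have h2 := hf T _ h1
    rw [MonObj.mul_comp, GrpObj.inv_comp] at h2
    exact mul_inv_eq_one.mp h2)
  refine ⟨v, ?_, hv⟩
  have hpe := Groth.Agent.Sga3C.QuotProps.epi_of_flat_surjective p
  have f1 : Flat (p ⊗ₘ p).left := Groth.Agent.Sga3C.QuotProps.tensorHom_left_of (@Flat) p p ‹_› ‹_›
  have f2 : Surjective (p ⊗ₘ p).left := Groth.Agent.Sga3C.QuotProps.tensorHom_left_of (@Surjective) p p ‹_› ‹_›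
  have hppe := Groth.Agent.Sga3C.QuotProps.epi_of_flat_surjective (p ⊗ₘ p)
  refine ⟨?_, ?_⟩
  · have h1 : η[G] ≫ f = η[H] := IsMonHom.one_hom f
    rw [← hv, ← Category.assoc, IsMonHom.one_hom p] at h1
    exact h1
  · rw [← cancel_epi (p ⊗ₘ p), ← Category.assoc, ← IsMonHom.mul_hom p, Category.assoc, hv,
      IsMonHom.mul_hom f, ← Category.assoc, MonoidalCategory.tensorHom_comp_tensorHom, hv]

/-- The common image. -/
theorem exists_image {G : Over (Spec (CommRingCat.of k))} [GrpObj G]
    [LocallyOfFiniteType G.hom] [QuasiCompact G.hom] {J : Type*} [Nonempty J] (F : J → Over (Spec (CommRingCat.of k)))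
    [∀ i, GrpObj (F i)] [∀ i, LocallyOfFiniteType (F i).hom] (f : ∀ i, G ⟶ F i) [∀ i, IsMonHom (f i)]
    (hdir : ∀ i j, ∃ l, (∀ (T : Over (Spec (CommRingCat.of k))) (x : T ⟶ G), x ≫ f l = 1 → x ≫ f i = 1) ∧
      ∀ (T : Over (Spec (CommRingCat.of k))) (x : T ⟶ G), x ≫ f l = 1 → x ≫ f j = 1) :
    ∃ (C : Over (Spec (CommRingCat.of k))) (_ : GrpObj C) (p : G ⟶ C) (v : ∀ i, C ⟶ F i) (i₀ : J), IsMonHom p ∧
      (∀ i, IsMonHom (v i)) ∧ (∀ i, p ≫ v i = f i) ∧ Flat p.left ∧ Surjective p.left ∧
      LocallyOfFinitePresentation p.left ∧ LocallyOfFiniteType C.hom ∧ QuasiCompact C.hom ∧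
      IsClosedImmersion (v i₀).left := by
  obtain ⟨i₀, hi₀⟩ := KerIdeal.exists_min F f hdir
  have : QuasiCompact (f i₀).left := quasiCompact_left (f i₀)
  obtain ⟨C, hC, p, i, hp, hi, hpi, h1, h2, h3, h4⟩ := exists_factor G (F i₀) (f i₀)
  have hd : ∀ j, ∃ v : C ⟶ F j, IsMonHom v ∧ p ≫ v = f j := fun j => exists_desc p (f j) (fun T x hx => by
    refine hi₀ j T x ?_
    rw [← hpi, ← Category.assoc, hx, MonObj.one_comp])
  choose v hv1 hv2 using hd
  have hpe := Groth.Agent.Sga3C.QuotProps.epi_of_flat_surjective p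
  have hvi : v i₀ = i := by rw [← cancel_epi p, hv2, hpi]
  refine ⟨C, hC, p, v, i₀, hp, hv1, hv2, h1, h2, h3, ?_, ?_, by rw [hvi]; exact h4⟩
  · rw [← Over.w i]; infer_instance
  · have : CompactSpace G.left := (quasiCompact_iff_compactSpace G.hom).1 inferInstance
    have : CompactSpace C.left := by
      have hs : Function.Surjective p.left := p.left.surjective
      exact ⟨by rw [← hs.range_eq]; exact isCompact_range p.left.continuous⟩
    exact (quasiCompact_iff_compactSpace C.hom).2 this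

end K270.ImageFam
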