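import Groth.Prelude.Def_AlgGrp

/-!
# Kernels of homomorphisms of group schemes (AlgGrp.IsKernel)

Elementary facts on `AlgGrp.IsKernel` by T-points.
-/

set_option autoImplicit false
universe u
open CategoryTheory CategoryTheory.Limits MonoidalCategory CartesianMonoidalCategory MonObj AlgebraicGeometry

namespace K270.Ker

variable {S : Scheme.{u}} {N G Q : Over S} [GrpObj Q] {i : N ⟶ G} {q : G ⟶ Q}

theorem comp_eq_one (h : AlgGrp.IsKernel i q) {T : Over S} (t : T ⟶ N) : t ≫ i ≫ q = 1 := by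
  have := h.w
  rw [this, ← Category.assoc]
  rw [toUnit_unique (t ≫ toUnit N) (toUnit T)]
  rw [MonObj.one_eq_one] at *
  simp [MonObj.comp_one]

/-- T-points of the kernel. -/
noncomputable def lift (h : AlgGrp.IsKernel i q) {T : Over S} (t : T ⟶ G) (ht : t ≫ q = 1) : T ⟶ N :=
  h.lift t (toUnit T) (by rw [ht, MonObj.one_eq_one, MonObj.comp_one])

@[reassoc]
theorem lift_comp (h : AlgGrp.IsKernel i q) {T : Over S} (t : T ⟶ G) (ht : t ≫ q = 1) :
    lift h t ht ≫ i = t := h.lift_fst _ _ _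

theorem mono (h : AlgGrp.IsKernel i q) : Mono i := ⟨fun _ _ hab => h.hom_ext hab (toUnit_unique _ _)⟩

end K270.Ker
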