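import Groth.Agent.GrpSch.K270.Ker
import Groth.Agent.Divis.ColonIdeal
import Mathlib.AlgebraicGeometry.Group.Abelian

/-!
# The ideal sheaf of the kernel of a homomorphism of group schemes

`kerI f` is the ideal sheaf of the kernel of `f : G ⟶ H` when the unit section of `H` is a closed immersion,
with the description of T-points; among a directed family there is a smallest kernel when `G` is Noetherian.
-/

set_option autoImplicit false
universe u
open CategoryTheory CategoryTheory.Limits MonoidalCategory CartesianMonoidalCategory MonObj AlgebraicGeometry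

namespace K270.KerIdeal

variable {S : Scheme.{u}} {G H : Over S} [GrpObj H]

/-- the ideal sheaf of the kernel -/
noncomputable def kerI (f : G ⟶ H) : G.left.IdealSheafData := (pullback.fst f.left (η[H] : 𝟙_ (Over S) ⟶ H).left).ker

theorem comp_eq_one_iff [IsClosedImmersion (η[H] : 𝟙_ (Over S) ⟶ H).left] (f : G ⟶ H) {T : Over S} (x : T ⟶ G) :
    x ≫ f = 1 ↔ kerI f ≤ x.left.ker := by
  constructor
  · intro h
    have h1 : x.left ≫ f.left = T.hom ≫ (η[H] : 𝟙_ (Over S) ⟶ H).left := by
      rw [← Over.comp_left, h, Hom.one_def, Over.comp_left, Over.toUnit_left]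
    have h2 : x.left = pullback.lift x.left T.hom h1 ≫ pullback.fst f.left (η[H] : 𝟙_ (Over S) ⟶ H).left :=
      (pullback.lift_fst _ _ _).symm
    rw [h2]
    exact Scheme.Hom.le_ker_comp _ _
  · intro h
    have h1 := IsClosedImmersion.lift_fac (pullback.fst f.left (η[H] : 𝟙_ (Over S) ⟶ H).left) x.left h
    ext1
    have h2 : (IsClosedImmersion.lift (pullback.fst f.left (η[H] : 𝟙_ (Over S) ⟶ H).left) x.left h) ≫
        pullback.snd f.left (η[H] : 𝟙_ (Over S) ⟶ H).left = T.hom := by
      rw [← Over.w x]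
      conv_rhs => rw [← h1]
      rw [Category.assoc, ← Over.w f, ← Category.assoc (pullback.fst _ _), pullback.condition, Category.assoc]
      have h3 : (η[H] : 𝟙_ (Over S) ⟶ H).left ≫ H.hom = 𝟙 S := by simp
      rw [h3]
      erw [Category.comp_id]
    rw [Over.comp_left, Hom.one_def, Over.comp_left, Over.toUnit_left, ← h2]
    conv_lhs => rw [← h1]
    rw [Category.assoc, Category.assoc, pullback.condition]

/-- Noetherian selection: in a cofiltered family of homomorphisms from `G` there is a smallest kernel. -/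
theorem exists_min {k : Type u} [Field k] {G : Over (Spec (CommRingCat.of k))}
    [LocallyOfFiniteType G.hom] [QuasiCompact G.hom] {J : Type*} [Nonempty J] (F : J → Over (Spec (CommRingCat.of k)))
    [∀ i, GrpObj (F i)] (f : ∀ i, G ⟶ F i)
    (hdir : ∀ i j, ∃ l, (∀ (T : Over (Spec (CommRingCat.of k))) (x : T ⟶ G), x ≫ f l = 1 → x ≫ f i = 1) ∧
      ∀ (T : Over (Spec (CommRingCat.of k))) (x : T ⟶ G), x ≫ f l = 1 → x ≫ f j = 1) :
    ∃ i₀, ∀ i, ∀ (T : Over (Spec (CommRingCat.of k))) (x : T ⟶ G), x ≫ f i₀ = 1 → x ≫ f i = 1 := by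
  have : IsNoetherianRing (CommRingCat.of k) := inferInstanceAs (IsNoetherianRing k)
  have : IsLocallyNoetherian G.left := LocallyOfFiniteType.isLocallyNoetherian G.hom
  have : CompactSpace G.left := (quasiCompact_iff_compactSpace G.hom).1 inferInstance
  have : IsNoetherian G.left := { }
  have := Groth.Agent.Divis.ColonIdeal.wellFoundedGT (X := G.left)
  have hmono : ∀ i j, (∀ (T : Over (Spec (CommRingCat.of k))) (x : T ⟶ G), x ≫ f i = 1 → x ≫ f j = 1) →
      kerI (f j) ≤ kerI (f i) := by
    intro i j h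
    let z : Over.mk (pullback.fst (f i).left (η[F i] : 𝟙_ (Over _) ⟶ F i).left ≫ G.hom) ⟶ G :=
      Over.homMk (pullback.fst (f i).left (η[F i] : 𝟙_ (Over _) ⟶ F i).left) rfl
    have h1 : z ≫ f i = 1 := (comp_eq_one_iff (f i) z).mpr le_rfl
    exact (comp_eq_one_iff (f j) z).mp (h _ z h1)
  obtain ⟨I, ⟨i₀, rfl⟩, hI⟩ := (wellFounded_gt (α := G.left.IdealSheafData)).has_min (Set.range fun i => kerI (f i)) (Set.range_nonempty _)
  refine ⟨i₀, fun i T x hx => ?_⟩
  obtain ⟨l, hl1, hl2⟩ := hdir i₀ i
  have h1 : kerI (f i₀) = kerI (f l) :=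
    eq_of_le_of_not_lt (hmono l i₀ hl1) (fun hlt => hI _ ⟨l, rfl⟩ hlt)
  refine hl2 T x ?_
  rw [comp_eq_one_iff, ← h1, ← comp_eq_one_iff]
  exact hx

end K270.KerIdeal
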