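import Mathlib.AlgebraicGeometry.Morphisms.SchemeTheoreticallyDominant
import Mathlib.AlgebraicGeometry.Morphisms.Affine
import Mathlib.AlgebraicGeometry.IdealSheaf.Subscheme
import Mathlib.AlgebraicGeometry.Morphisms.ClosedImmersion

/-!
# Morphisms `c : X ⟶ Y` with `O_Y ≅ c_* O_X` (qcqs), and orthogonality to affine morphisms

* `OConn c`
* `OConn.comp`, `OConn.of_isPullback` (flat base change)
* `OConn.hom_ext`, `OConn.exists_lift`
-/

set_option autoImplicit false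
universe u
open CategoryTheory CategoryTheory.Limits AlgebraicGeometry TopologicalSpace Opposite

namespace K270.OConn

/-- `O_Y ≅ c_* O_X` and `c` is quasi-compact and quasi-separated. -/
structure OConn {X Y : Scheme.{u}} (c : X ⟶ Y) : Prop where
  qc : QuasiCompact c
  qs : QuasiSeparated c
  bij : ∀ U : Y.Opens, Function.Bijective (c.app U).hom

/-- It is enough to check the condition on a basis. -/
theorem of_basis {X Y : Scheme.{u}} (c : X ⟶ Y) [QuasiCompact c] [QuasiSeparated c] (B : Set Y.Opens)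
    (hB : ∀ (y : Y) (U : Y.Opens), y ∈ U → ∃ V ∈ B, y ∈ V ∧ V ≤ U)
    (h : ∀ V ∈ B, Function.Bijective (c.app V).hom) : OConn c := by
  have hinj : ∀ U : Y.Opens, Function.Injective (c.app U).hom := by
    intro U
    rw [injective_iff_map_eq_zero]
    intro s hs
    refine Y.IsSheaf.section_ext fun x hx => ?_
    obtain ⟨V, hV, hxV, hVU⟩ := hB x U hx
    refine ⟨V, hVU, hxV, (h V hV).1 ?_⟩
    rw [map_zero, map_zero]
    have := congrArg (X.presheaf.map (homOfLE (c.preimage_mono hVU)).op).hom hs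
    rw [map_zero] at this
    rw [← this, ← CommRingCat.comp_apply, ← CommRingCat.comp_apply]
    exact congrArg (fun φ => φ.hom s) (c.naturality (homOfLE hVU).op)
  refine ⟨‹_›, ‹_›, fun U => ⟨hinj U, fun t => ?_⟩⟩
  let J := {V : Y.Opens // V ∈ B ∧ V ≤ U}
  have hex : ∀ V : J, ∃ s : Γ(Y, V.1), (c.app V.1).hom s =
      (X.presheaf.map (homOfLE (c.preimage_mono V.2.2)).op).hom t := fun V => (h V.1 V.2.1).2 _
  choose s hs using hex
  have hcov : U ≤ iSup (fun V : J => V.1) := by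
    intro x hx
    obtain ⟨V, hV, hxV, hVU⟩ := hB x U hx
    exact Opens.mem_iSup.mpr ⟨⟨V, hV, hVU⟩, hxV⟩
  have hcomp : TopCat.Presheaf.IsCompatible Y.presheaf (fun V : J => V.1) s := by
    intro V W
    apply hinj
    have e1 := congrArg (X.presheaf.map (homOfLE (c.preimage_mono (inf_le_left : V.1 ⊓ W.1 ≤ V.1))).op).hom (hs V)
    have e2 := congrArg (X.presheaf.map (homOfLE (c.preimage_mono (inf_le_right : V.1 ⊓ W.1 ≤ W.1))).op).hom (hs W)
    rw [← CommRingCat.comp_apply, ← CommRingCat.comp_apply, ← Functor.map_comp] at e1 e2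
    have e3 := congrArg (fun φ => φ.hom (s V)) (c.naturality (homOfLE (inf_le_left : V.1 ⊓ W.1 ≤ V.1)).op)
    have e4 := congrArg (fun φ => φ.hom (s W)) (c.naturality (homOfLE (inf_le_right : V.1 ⊓ W.1 ≤ W.1)).op)
    refine (e3.trans e1).trans (Eq.trans ?_ (e4.trans e2).symm)
    rfl
  obtain ⟨r, hr, -⟩ := TopCat.Sheaf.existsUnique_gluing' Y.sheaf (fun V : J => V.1) U
    (fun V => homOfLE V.2.2) hcov s hcomp
  refine ⟨r, ?_⟩
  refine X.IsSheaf.section_ext fun x hx => ?_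
  obtain ⟨V, hV, hxV, hVU⟩ := hB (c x) U hx
  refine ⟨c ⁻¹ᵁ V, c.preimage_mono hVU, hxV, ?_⟩
  have e3 := congrArg (fun φ => φ.hom r) (c.naturality (homOfLE hVU).op)
  refine e3.symm.trans ?_
  refine Eq.trans ?_ (hs ⟨V, hV, hVU⟩)
  exact congrArg (c.app V).hom (hr ⟨V, hV, hVU⟩)

variable {X Y Z : Scheme.{u}}

theorem OConn.comp {f : X ⟶ Y} {g : Y ⟶ Z} (hf : OConn f) (hg : OConn g) : OConn (f ≫ g) := by
  have := hf.qc
  have := hf.qs
  have := hg.qc
  have := hg.qs
  refine ⟨inferInstance, inferInstance, fun U => ?_⟩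
  have h := (hf.bij (g ⁻¹ᵁ U)).comp (hg.bij U)
  have e : ((f ≫ g).app U) = g.app U ≫ f.app (g ⁻¹ᵁ U) := Scheme.Hom.comp_app f g U
  have e' : ⇑((f ≫ g).app U).hom = ⇑(f.app (g ⁻¹ᵁ U)).hom ∘ ⇑(g.app U).hom := by
    rw [e]; rfl
  rw [e']
  exact h

theorem OConn.isDom {f : X ⟶ Y} (hf : OConn f) : IsSchemeTheoreticallyDominant f := by
  have := hf.qc
  refine ⟨?_⟩
  apply Scheme.IdealSheafData.ext
  funext U
  rw [Scheme.Hom.ker_apply]
  exact (RingHom.injective_iff_ker_eq_bot _).mp (hf.bij U.1).1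

theorem OConn.of_isIso (f : X ⟶ Y) [IsIso f] : OConn f :=
  ⟨inferInstance, inferInstance, fun _ => ConcreteCategory.bijective_of_isIso _⟩

/-- Flat base change. -/
theorem OConn.of_isPullback {X Y S T : Scheme.{u}} {f : T ⟶ S} {g : Y ⟶ X} {iX : X ⟶ S} {iY : Y ⟶ T}
    (H : IsPullback g iY iX f) [Flat f] (h : OConn iX) : OConn iY := by
  have := h.qc
  have := h.qs
  have hqc : QuasiCompact iY := MorphismProperty.of_isPullback (P := @QuasiCompact) H h.qc
  have hqs : QuasiSeparated iY := MorphismProperty.of_isPullback (P := @QuasiSeparated) H h.qs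
  refine of_basis iY {V | IsAffineOpen V ∧ ∃ U : S.Opens, IsAffineOpen U ∧ V ≤ f ⁻¹ᵁ U} ?_ ?_
  · intro y W hyW
    obtain ⟨_, ⟨U, hU, rfl⟩, hyU, -⟩ :=
      S.isBasis_affineOpens.exists_subset_of_mem_open (Set.mem_univ (f y)) isOpen_univ
    obtain ⟨_, ⟨V, hV, rfl⟩, hyV, hVU⟩ :=
      T.isBasis_affineOpens.exists_subset_of_mem_open (show y ∈ W ⊓ f ⁻¹ᵁ U from ⟨hyW, hyU⟩) (W ⊓ f ⁻¹ᵁ U).isOpen
    exact ⟨V, ⟨hV, U, hU, fun z hz => (hVU hz).2⟩, hyV, fun z hz => (hVU hz).1⟩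
  · rintro V ⟨hV, U, hU, hVU⟩
    have h1 := isIso_pushoutSection_of_isQuasiSeparated_of_flat_right H (US := U) (UT := V) (UX := iX ⁻¹ᵁ U)
      (UY := iY ⁻¹ᵁ V) hVU le_rfl (by
        grw [← Scheme.Hom.comp_preimage, H.w, Scheme.Hom.comp_preimage, right_eq_inf, hVU]) hU hV
      (iX.isCompact_preimage hU.isCompact) (iX.isQuasiSeparated_preimage hU.isQuasiSeparated)
    have h2 := (isIso_pushoutSection_iff H hVU le_rfl _).mp h1
    have h3 : IsIso (iX.appLE U (iX ⁻¹ᵁ U) le_rfl) := by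
      rw [ConcreteCategory.isIso_iff_bijective]
      rw [Scheme.Hom.appLE_eq_app]
      exact h.bij U
    have h4 := h2.isIso_inr_of_isIso
    have h5 : (iY.appLE V (iY ⁻¹ᵁ V) (by simp)) = iY.app V := Scheme.Hom.appLE_eq_app _
    rw [h5] at h4
    exact ConcreteCategory.bijective_of_isIso _

end K270.OConn
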