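import Groth.Agent.Books.AlgPts
import Groth.Agent.Localalg.GrpSchComp
import Groth.Agent.Variety.K432.CountDecomp
import Mathlib.AlgebraicGeometry.Morphisms.Proper

/-!
# Differences of irreducible closed subsets of a proper group scheme over an algebraically closed field
-/

set_option autoImplicit false
universe u
open CategoryTheory MonoidalCategory CartesianMonoidalCategory MonObj GrpObj AlgebraicGeometry TopologicalSpace

namespace K270.SubIrr

open Groth.Agent.Books.AlgPts

variable {k : Type u} [Field k]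

theorem range_eq {X : Over (Spec (CommRingCat.of k))}
    (x : 𝟙_ (Over (Spec (CommRingCat.of k))) ⟶ X) : Set.range ⇑x.left.base = {pt x} := by
  have : Subsingleton ↥(Spec (CommRingCat.of k)) := inferInstanceAs (Subsingleton (PrimeSpectrum k))
  ext z
  constructor
  · rintro ⟨w, rfl⟩
    exact congrArg (fun t => x.left t) (Subsingleton.elim (α := ↥(Spec (CommRingCat.of k))) w _)
  · rintro rfl
    exact ⟨_, rfl⟩

theorem range_subset_iff {X : Over (Spec (CommRingCat.of k))}
    (x : 𝟙_ (Over (Spec (CommRingCat.of k))) ⟶ X) (T : Set X.left) :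
    Set.range ⇑x.left.base ⊆ T ↔ pt x ∈ T := by
  rw [range_eq, Set.singleton_subset_iff]

variable [IsAlgClosed k]

/-- The difference of two irreducible closed subsets. -/
theorem exists_diff (A : Over (Spec (CommRingCat.of k))) [GrpObj A] [IsProper A.hom]
    (T₁ T₂ : Closeds A.left) (h₁ : IsIrreducible (T₁ : Set A.left)) (h₂ : IsIrreducible (T₂ : Set A.left)) :
    ∃ D : Closeds A.left, IsIrreducible (D : Set A.left) ∧
      ∀ z : 𝟙_ (Over (Spec (CommRingCat.of k))) ⟶ A, pt z ∈ D ↔
        ∃ x y : 𝟙_ (Over (Spec (CommRingCat.of k))) ⟶ A, pt x ∈ T₁ ∧ pt y ∈ T₂ ∧ x * y⁻¹ = z := by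
  have key : ∀ (T : Closeds A.left) (_ : IsIrreducible (T : Set A.left)),
      ∃ (X : Over (Spec (CommRingCat.of k))) (a : X ⟶ A), IsClosedImmersion a.left ∧
        Set.range a.left = T ∧ IrreducibleSpace X.left := by
    intro T hT
    let Y := (Scheme.IdealSheafData.vanishingIdeal T).subscheme
    let i : Y ⟶ A.left := (Scheme.IdealSheafData.vanishingIdeal T).subschemeι
    have hrange : Set.range i = T := by
      rw [Scheme.IdealSheafData.range_subschemeι]
      simp
    have hemb : Topology.IsClosedEmbedding i := i.isClosedEmbedding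
    refine ⟨Over.mk (i ≫ A.hom), Over.homMk i rfl, ?_, hrange, ?_⟩
    · exact inferInstanceAs (IsClosedImmersion i)
    · have h1 : IsIrreducible (Set.range i) := by rw [hrange]; exact hT
      have := Subtype.irreducibleSpace h1
      exact hemb.isEmbedding.toHomeomorph.irreducibleSpace_iff.mpr this
  obtain ⟨X₁, a₁, hc₁, hr₁, hi₁⟩ := key T₁ h₁
  obtain ⟨X₂, a₂, hc₂, hr₂, hi₂⟩ := key T₂ h₂
  have hp₁ : IsProper X₁.hom := by rw [← Over.w a₁]; infer_instance
  have hp₂ : IsProper X₂.hom := by rw [← Over.w a₂]; infer_instance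
  let f : X₁ ⊗ X₂ ⟶ A := (fst X₁ X₂ ≫ a₁) * (snd X₁ X₂ ≫ a₂)⁻¹
  have hp : IsProper (X₁ ⊗ X₂).hom := by rw [Over.tensorObj_hom]; infer_instance
  have hf : IsProper f.left := by
    have : IsProper (f.left ≫ A.hom) := by rw [Over.w]; infer_instance
    exact IsProper.of_comp f.left A.hom
  have hg := Groth.Agent.Localalg.GrpSchComp.geometricallyIrreducible_of_irreducibleSpace X₁.hom
  have hirr : IrreducibleSpace (X₁ ⊗ X₂).left :=
    inferInstanceAs (IrreducibleSpace ↥(Limits.pullback X₁.hom X₂.hom))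
  refine ⟨⟨Set.range f.left, f.left.isClosedMap.isClosed_range⟩, ?_, fun z => ?_⟩
  · change IsIrreducible (Set.range f.left)
    rw [← Set.image_univ]
    exact (IrreducibleSpace.isIrreducible_univ _).image _ f.left.continuous.continuousOn
  · constructor
    · intro hz
      obtain ⟨w, hw⟩ := exists_comp_eq_of_pt_mem_range f z hz
      refine ⟨w ≫ fst _ _ ≫ a₁, w ≫ snd _ _ ≫ a₂, ?_, ?_, ?_⟩
      · rw [← SetLike.mem_coe, ← hr₁, ← Category.assoc, pt_comp]
        exact ⟨_, rfl⟩
      · rw [← SetLike.mem_coe, ← hr₂, ← Category.assoc, pt_comp]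
        exact ⟨_, rfl⟩
      · rw [← hw, MonObj.comp_mul, GrpObj.comp_inv]
    · rintro ⟨x, y, hx, hy, rfl⟩
      rw [← SetLike.mem_coe, ← hr₁] at hx
      rw [← SetLike.mem_coe, ← hr₂] at hy
      obtain ⟨x', rfl⟩ := exists_comp_eq_of_pt_mem_range a₁ x hx
      obtain ⟨y', rfl⟩ := exists_comp_eq_of_pt_mem_range a₂ y hy
      refine ⟨pt (lift x' y'), ?_⟩
      rw [← pt_comp]
      congr 1
      rw [MonObj.comp_mul, GrpObj.comp_inv, lift_fst_assoc, lift_snd_assoc]

end K270.SubIrr
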