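import Groth.Agent.S4107
import Groth.Agent.Sga3.H794.ChevClosed
import Groth.Agent.S0383
import Groth.Agent.Sga3.H821.ExtAffine
import Groth.Agent.Sga3.H780.Pointed
import Groth.Agent.Sga3C.QuotProps
import Groth.Agent.GrpSch.K270.HullFF

/-!
# A group scheme of finite type over a field killed by a positive integer is affine
-/

set_option autoImplicit false
universe u
open CategoryTheory MonoidalCategory CartesianMonoidalCategory MonObj GrpObj AlgebraicGeometry Limits

namespace K270.TorsAff

open Groth.Agent Groth.Agent.Sga3B Groth.Agent.Sga3C.Affinization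

theorem closed (K : Type u) [Field K] [IsAlgClosed K] (N : Over (Spec (CommRingCat.of K))) [GrpObj N]
    [Smooth N.hom] [QuasiCompact N.hom] [ConnectedSpace N.left] (n : ℕ) (hn : 1 ≤ n)
    (h : (𝟙 N : N ⟶ N) ^ n = 1) : IsAffine N.left := by
  obtain ⟨L, _, l, Q, _, q, hl, hlc, hLa, hLs, hLc, hLn, hq, hqs, hqf, hker, hQp, hQs, hQc⟩ :=
    Groth.Agent.Sga3.H794.ChevClosed.exists_chevalley K N
  have hGI := Groth.Agent.Sga3.H780.Pointed.geometricallyIntegral Q
  have hepi : Epi q := Groth.Agent.Sga3C.QuotProps.epi_of_flat_surjective q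
  have hQ : (𝟙 Q : Q ⟶ Q) ^ n = 1 := by
    rw [← cancel_epi q, MonObj.comp_pow, Category.comp_id, MonObj.comp_one]
    have := congrArg (fun f => f ≫ q) h
    simp only [MonObj.pow_comp, Category.id_comp, MonObj.one_comp] at this
    exact this
  have hsurj := Groth.Agent.S0383.result K Q n hn
  rw [hQ] at hsurj
  have hsub : Subsingleton Q.left := by
    have h1 : ((1 : Q ⟶ Q).left) = Q.hom ≫ (η[Q] : 𝟙_ _ ⟶ Q).left := by
      rw [Hom.one_def, Over.comp_left]
      rfl
    refine ⟨fun x y => ?_⟩
    obtain ⟨x', hx'⟩ := hsurj.surj x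
    obtain ⟨y', hy'⟩ := hsurj.surj y
    rw [← hx', ← hy', h1, Scheme.Hom.comp_apply, Scheme.Hom.comp_apply]
    congr 1
    have : Subsingleton ↥(Spec (CommRingCat.of K)) := inferInstanceAs (Subsingleton (PrimeSpectrum K))
    exact Subsingleton.elim _ _
  have hQa : IsAffine Q.left := inferInstance
  exact Sga3.H821.ExtAffine.isAffine_of_extension K l q hker

theorem smooth_case (k : Type u) [Field k] (N : Over (Spec (CommRingCat.of k))) [GrpObj N]
    [Smooth N.hom] [QuasiCompact N.hom] [ConnectedSpace N.left] (n : ℕ) (hn : 1 ≤ n)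
    (h : (𝟙 N : N ⟶ N) ^ n = 1) : IsAffineHom N.hom := by
  let K := AlgebraicClosure k
  let j : Spec (CommRingCat.of K) ⟶ Spec (CommRingCat.of k) := Spec.map (CommRingCat.ofHom (algebraMap k K))
  have hGI := Groth.Agent.Sga3.H780.Pointed.geometricallyIntegral N
  have hGI' : GeometricallyIntegral ((Over.pullback j).obj N).hom :=
    inferInstanceAs (GeometricallyIntegral (pullback.snd N.hom j))
  have h1 : Smooth ((Over.pullback j).obj N).hom :=
    inferInstanceAs (Smooth (pullback.snd N.hom j))
  have h2 : QuasiCompact ((Over.pullback j).obj N).hom :=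
    inferInstanceAs (QuasiCompact (pullback.snd N.hom j))
  have h3 : IsIntegral ((Over.pullback j).obj N).left :=
    GeometricallyIntegral.isIntegral_of_subsingleton ((Over.pullback j).obj N).hom
  have hp : ∀ m : ℕ, (Over.pullback j).map ((𝟙 N : N ⟶ N) ^ m) =
      (𝟙 ((Over.pullback j).obj N) : (Over.pullback j).obj N ⟶ (Over.pullback j).obj N) ^ m := by
    intro m
    induction m with
    | zero => rw [pow_zero, pow_zero, Functor.map_one]
    | succ m ih => rw [pow_succ, pow_succ, Functor.map_mul, ih, CategoryTheory.Functor.map_id]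
  have h4 : (𝟙 ((Over.pullback j).obj N) : (Over.pullback j).obj N ⟶ (Over.pullback j).obj N) ^ n = 1 := by
    rw [← hp, h, Functor.map_one]
  have h5 := closed K ((Over.pullback j).obj N) n hn h4
  have h6 : IsAffineHom (pullback.snd N.hom j) := by
    have : IsAffine (pullback N.hom j) := h5
    infer_instance
  have hj : Surjective j := inferInstance
  exact MorphismProperty.of_pullback_snd_of_descendsAlong
    (Q := @Surjective ⊓ @Flat ⊓ @QuasiCompact) (g := j)
    ⟨⟨inferInstance, inferInstance⟩, inferInstance⟩ h6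

/-- A group scheme of finite type over a field killed by `n ≥ 1` is affine. -/
theorem isAffine_of_pow_eq_one (k : Type u) [Field k] (G : Over (Spec (CommRingCat.of k))) [GrpObj G]
    [LocallyOfFiniteType G.hom] [QuasiCompact G.hom] (n : ℕ) (hn : 1 ≤ n)
    (h : (𝟙 G : G ⟶ G) ^ n = 1) : IsAffine G.left := by
  have h1 : CompactSpace G.left := QuasiCompact.compactSpace_of_compactSpace G.hom
  have h2 : IsLocallyNoetherian G.left := LocallyOfFiniteType.isLocallyNoetherian G.hom
  have ha := isAffinization_toAff G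
  obtain ⟨_, h3⟩ := Groth.Agent.Sga3C.AffinizationGrp.exists_grpObj ha
  obtain ⟨h4, h5, h6⟩ := Groth.Agent.S4107.main (toAff G) ha
  have haff := ha.isAffine
  have hu1 : QuasiCompact (toAff G).left := inferInstance
  have hu2 := ha.isIso
  have hu3 : IsSchemeTheoreticallyDominant (toAff G).left :=
    Groth.Agent.Sga3.H787.FlatAff.dominant_of_injective _
      (ConcreteCategory.bijective_of_isIso (toAff G).left.appTop).1
  obtain ⟨hu4, hu5⟩ := K270.HullFF.flat_surjective_of_dominant (toAff G)
  obtain ⟨_, hk⟩ := KerGrp.exists_grpObj (toAff G)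
  have hqc : QuasiCompact (KerGrp.kerObj (toAff G)).hom :=
    inferInstanceAs (QuasiCompact (pullback.snd (toAff G).left (η[affOver G] : 𝟙_ _ ⟶ affOver G).left))
  have hN : (𝟙 (KerGrp.kerObj (toAff G)) : KerGrp.kerObj (toAff G) ⟶ KerGrp.kerObj (toAff G)) ^ n = 1 := by
    rw [← cancel_mono (KerGrp.kerι (toAff G)), MonObj.pow_comp, Category.id_comp, MonObj.one_comp]
    have := congrArg (fun f => KerGrp.kerι (toAff G) ≫ f) h
    simp only [MonObj.comp_pow, Category.comp_id, MonObj.comp_one] at this
    exact this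
  have hA := smooth_case k (KerGrp.kerObj (toAff G)) n hn hN
  have hu6 : IsAffineHom (toAff G).left := Sga3.H821.ExtAffine.isAffineHom_of_ker (toAff G) hA
  exact isAffine_of_isAffineHom (toAff G).left

end K270.TorsAff
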