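import Groth.Agent.SGA7.K566.TorsDense
import Groth.Agent.Sga7.H740.MulGeo
import Groth.Agent.Sga7.H274.FieldPts
import Groth.Agent.Sga3B.RedIdComp
import Groth.Agent.AlgGrp.K398.Pts

/-!
# Density of the `ℓ`-power torsion points of a divisible commutative group in characteristic `p`
-/

set_option autoImplicit false
universe u
open CategoryTheory MonoidalCategory CartesianMonoidalCategory MonObj GrpObj AlgebraicGeometry Limits

namespace K270.TorsDens

open Groth.Agent Groth.Agent.Books.AlgPts Groth.Agent.Books.AlgPtsGrp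

variable {k : Type u} [Field k] [IsAlgClosed k]

/-- every power map surjective on points -/
theorem connectedSpace (H : Over (Spec (CommRingCat.of k))) [GrpObj H]
    [LocallyOfFiniteType H.hom] [QuasiCompact H.hom] [IsReduced H.left]
    (h : ∀ n : ℕ, 1 ≤ n → Surjective ((𝟙 H : H ⟶ H) ^ n).left) : ConnectedSpace H.left := by
  obtain ⟨U, _, u, hu1, hu2, hu3, hu4, hu5⟩ := Sga3B.RedIdComp.exists_redIdComp H
  obtain ⟨c, hc, hc2⟩ := Sga7.H274.FieldPts.exists_pow_neutral H U u hu5
  have hUft : LocallyOfFiniteType U.hom := by rw [← Over.w u]; infer_instance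
  have hUqc : QuasiCompact U.hom := by rw [← Over.w u]; infer_instance
  have hs : Surjective u.left := by
    refine K398.Pts.surjective_of_forall_pt u fun y => ?_
    have := h c hc
    obtain ⟨x, hx⟩ := K398.Pts.exists_lift ((𝟙 H : H ⟶ H) ^ c) y
    obtain ⟨z, hz⟩ := hc2 x
    refine ⟨z, ?_⟩
    rw [hz, ← hx, MonObj.comp_pow, Category.comp_id]
  have hi : IsIso u := K398.Pts.isIso_of_closed_surjective u
  exact K398.Pts.connectedSpace_of_surjective u

/-- In characteristic `p`, the `ℓ`-power torsion points of a divisible commutative group are dense. -/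
theorem closure_eq (p : ℕ) (hp : p.Prime) [CharP k p] (H : Over (Spec (CommRingCat.of k))) [GrpObj H]
    [IsCommMonObj H] [LocallyOfFiniteType H.hom] [QuasiCompact H.hom] [IsReduced H.left]
    (h : ∀ n : ℕ, 1 ≤ n → Surjective ((𝟙 H : H ⟶ H) ^ n).left) (l : ℕ) (hl : l.Prime) (hlp : (l : k) ≠ 0) :
    closure (pt '' (SGA7.K566.TorsDense.tors H l : Set (𝟙_ (Over (Spec (CommRingCat.of k))) ⟶ H))) = Set.univ := by
  have h1 : ConnectedSpace H.left := connectedSpace H h
  have h2 : Smooth H.hom := Books.AlgPtsSmooth.smooth_of_isReduced H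
  have h3 : IsSeparated H.hom := Books.AntiAffine.isSeparated_hom H
  have h4 := ((Sga7.H740.MulGeo.tfae H p hp.pos).out 1 3).1 (h p hp.one_le)
  have h5 : Sga7.H109.Basic.NoGa H := h4.resolve_left (fun h6 => h6 (CharP.cast_eq_zero k p))
  exact SGA7.K566.TorsDense.dense_tors h5 l hl hlp

end K270.TorsDens
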